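import Cfsg.Agent.TICentralizers.Structure
import Cfsg.Agent.S2202
import Cfsg.Agent.CAGroups.Simple

/-!
# Insoluble groups with T.I. centralisers: abelian involution centralisers
-/

set_option autoImplicit false
set_option linter.unusedSectionVars false
set_option linter.style.haveILetI false

namespace CfsgLib.TICentralizers

open Subgroup CfsgLib.SEmbed CfsgLib.Small CfsgLib.InvCentAbelian

universe u v

variable {G : Type u} [Group G] {Ω : Type v} [MulAction G Ω] [Fintype G] (h : Conf G Ω)
include h

theorem Conf.psl_of_abelian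
    (hab : ∀ x : Ω, ∀ a ∈ cA G x, ∀ b ∈ cA G x, a * b = b * a) :
    ∃ n : ℕ, 2 ≤ n ∧
      Nonempty (G ≃* Matrix.ProjectiveSpecialLinearGroup (Fin 2) (GaloisField 2 n)) := by
  classical
  haveI : Fact (Nat.Prime 2) := ⟨Nat.prime_two⟩
  haveI := h.nontriv
  obtain ⟨x⟩ : Nonempty Ω := inferInstance
  have hinv : ∀ t : G, orderOf t = 2 → IsMulCommutative (centralizer ({t} : Set G)) := by
    intro t ht
    obtain ⟨y, hy⟩ := h.uf.exists_fix t ht
    rw [h.cent y t ht hy]
    exact ⟨⟨fun a b => Subtype.ext (hab y a a.2 b b.2)⟩⟩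
  rcases Cfsg.Agent.S2202.result (h.ti.even_card h.nsolv) hinv with
    hcyc | hnorm | ⟨F, iF, iFt, A, iA, iAf, hchar, -, ⟨e⟩⟩
  · exfalso
    have hp : IsPGroup 2 (h.invCore x) := fun a =>
      ⟨1, by rw [pow_one, sq]; exact Subtype.ext a.2.2⟩
    obtain ⟨P, hP⟩ := hp.exists_le_sylow
    haveI := hcyc P
    have hle := IsCyclic.card_pow_eq_one_le (α := P) (show 0 < 2 by norm_num)
    have hsub : (Finset.univ.image fun a : h.invCore x => (⟨(a : G), hP a.2⟩ : (P : Subgroup G))) ⊆
        Finset.univ.filter fun g : (P : Subgroup G) => g ^ 2 = 1 := by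
      intro g hg
      obtain ⟨a, -, rfl⟩ := Finset.mem_image.1 hg
      exact Finset.mem_filter.2 ⟨Finset.mem_univ _, Subtype.ext (by
        show (a : G) ^ 2 = 1
        rw [sq]; exact a.2.2)⟩
    have hcard := Finset.card_le_card hsub
    rw [Finset.card_image_of_injective (f := fun a : h.invCore x =>
        (⟨(a : G), hP a.2⟩ : (P : Subgroup G))) _ fun a b e =>
        Subtype.ext (congrArg (fun g : (P : Subgroup G) => (g : G)) e),
      Finset.card_univ, ← Nat.card_eq_fintype_card, h.card_invCore x] at hcard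
    have := h.three_le x
    omega
  · exfalso
    obtain ⟨S⟩ : Nonempty (Sylow 2 G) := inferInstance
    haveI := hnorm S
    have hS := Solvable.le_fittingSubgroup (N := (S : Subgroup G)) S.isPGroup'.isNilpotent
    refine h.nsolv (h.ti.isSolvable_of_fitting_ne_bot fun hF =>
      S.ne_bot_of_dvd_card (h.ti.even_card h.nsolv).two_dvd (le_bot_iff.1 (hF ▸ hS)))
  · have hA : Subsingleton A := ⟨fun a b => by
      have hc : ∀ a : A, e.symm (1, a) ∈ center G := fun a => mem_center_iff.2 fun g => by
        apply e.injective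
        simp [Prod.ext_iff, mul_comm]
      rw [h.ti.center_eq_bot h.nsolv] at hc
      have ha := e.symm.injective ((mem_bot.1 (hc a)).trans (map_one e.symm).symm)
      have hb := e.symm.injective ((mem_bot.1 (hc b)).trans (map_one e.symm).symm)
      exact (congrArg Prod.snd ha).trans (congrArg Prod.snd hb).symm⟩
    haveI : Unique A := uniqueOfSubsingleton 1
    let e' : G ≃* Matrix.SpecialLinearGroup (Fin 2) F := e.trans MulEquiv.prodUnique
    obtain ⟨⟨f, hf0⟩, -, hf⟩ := FiniteField.card F 2
    simp only [PNat.mk_coe] at hf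
    have hf2 : 2 ≤ f := by
      by_contra hlt
      obtain rfl : f = 1 := by omega
      have hcard := h.card_group x
      rw [Nat.card_congr e'.toEquiv, CfsgLib.Linear.card_SL_two, hf] at hcard
      have h3 := h.three_le x
      have hn : 1 ≤ Nat.card (cA G x) := Nat.card_pos
      have hle : Nat.card (h.invCore x) ≤ Nat.card (cA G x) :=
        Nat.le_of_dvd Nat.card_pos (Subgroup.card_dvd_of_le (h.invCore_le x))
      rw [h.card_invCore x] at hle
      have : 4 * Nat.card (cA G x) ≤ (Nat.card (cA G x) + 1) * Nat.card (cA G x) :=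
        Nat.mul_le_mul_right _ (by omega)
      rw [show 2 ^ 1 * ((2 ^ 1) ^ 2 - 1) = 6 by norm_num] at hcard
      nlinarith
    haveI : Fintype (GaloisField 2 f) := Fintype.ofFinite _
    refine ⟨f, hf2, ⟨(e'.trans CfsgLib.CAGroups.sl2EquivPSL2).trans
      (CfsgLib.Linear.pslFieldCongr ?_)⟩⟩
    rw [hf, ← Nat.card_eq_fintype_card, GaloisField.card 2 f (by omega)]

end CfsgLib.TICentralizers
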