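import Mathlib
import Cfsg.Prelude.Def_LieExceptional
import Cfsg.Agent.OddOrder.CN.Basic
import Cfsg.Agent.Solvable.Fitting
import Cfsg.Agent.Solvable.Nilpotent
import Cfsg.Agent.S0183
import Cfsg.Agent.S1473

/-!
# Groups in which every centraliser is a T.I. subgroup

* `TICent.conj_commute`, `TICent.isCNGroup`;
* `TICent.isNilpotent_of_center_ne_bot`;
* `TICent.isSolvable_of_fitting_ne_bot`.
-/

set_option autoImplicit false
set_option linter.unusedSectionVars false

namespace CfsgLib.TICentralizers

open Subgroup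

/-- Every centraliser is a T.I. subset. -/
def TICent (G : Type*) [Group G] : Prop :=
  ∀ x : G, Cfsg.IsTISubset (centralizer ({x} : Set G) : Set G)

variable {G : Type*} [Group G]

theorem mem_cent {c x : G} : c ∈ centralizer ({x} : Set G) ↔ Commute c x :=
  mem_centralizer_singleton_iff

theorem self_mem_cent (x : G) : x ∈ centralizer ({x} : Set G) := mem_cent.2 (Commute.refl x)

theorem TICent.mem_normalizer (h : TICent G) {x z g : G}
    (hz : z ∈ centralizer ({x} : Set G)) (hz1 : z ≠ 1)
    (hgz : g * z * g⁻¹ ∈ centralizer ({x} : Set G)) :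
    g ∈ normalizer (centralizer ({x} : Set G) : Set G) :=
  by_contra fun hg => hz1 (h x g hg z hz hgz)

theorem TICent.mem_normalizer_of_commute (h : TICent G) {x z g : G}
    (hz : z ∈ centralizer ({x} : Set G)) (hz1 : z ≠ 1) (hgz : Commute g z) :
    g ∈ normalizer (centralizer ({x} : Set G) : Set G) :=
  h.mem_normalizer hz hz1 (by rwa [hgz.eq, mul_inv_cancel_right])

theorem commute_conj_of_mem_normalizer {x g : G}
    (hg : g ∈ normalizer (centralizer ({x} : Set G) : Set G)) : Commute (g * x * g⁻¹) x :=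
  mem_cent.1 ((mem_normalizer_iff.1 hg x).1 (self_mem_cent x))

/-- Inside the centraliser of a non-identity element every element commutes with its conjugates. -/
theorem TICent.conj_commute (h : TICent G) {x y a : G} (hx : x ≠ 1)
    (hy : y ∈ centralizer ({x} : Set G)) (ha : a ∈ centralizer ({x} : Set G)) :
    Commute (a * y * a⁻¹) y :=
  commute_conj_of_mem_normalizer
    (h.mem_normalizer_of_commute (mem_cent.2 (mem_cent.1 hy).symm) hx (mem_cent.1 ha))

/-- A finite group whose elements commute with their conjugates is nilpotent. -/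
theorem isNilpotent_of_conj_commute {X : Type*} [Group X] [Finite X]
    (h : ∀ a y : X, Commute (a * y * a⁻¹) y) : Group.IsNilpotent X := by
  have htop : Cfsg.fittingSubgroup X = ⊤ := by
    rw [eq_top_iff]
    intro y _
    let K : Subgroup X := normalClosure ({y} : Set X)
    have hK : IsMulCommutative K := by
      refine isMulCommutative_closure ?_
      intro t₁ ht₁ t₂ ht₂
      obtain ⟨y₁, hy₁, h₁⟩ := Group.mem_conjugatesOfSet_iff.1 ht₁
      obtain ⟨y₂, hy₂, h₂⟩ := Group.mem_conjugatesOfSet_iff.1 ht₂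
      rw [Set.mem_singleton_iff] at hy₁ hy₂
      rw [hy₁] at h₁
      rw [hy₂] at h₂
      obtain ⟨b₁, rfl⟩ := isConj_iff.1 h₁
      obtain ⟨b₂, rfl⟩ := isConj_iff.1 h₂
      have h' := (h (b₂⁻¹ * b₁) y).map (MulAut.conj b₂).toMonoidHom
      simpa [mul_assoc] using h'.eq
    have hn : Group.IsNilpotent K := by
      let _ : CommGroup K := { (inferInstance : Group K) with mul_comm := fun a b => mul_comm' a b }
      infer_instance
    exact Solvable.le_fittingSubgroup hn (subset_normalClosure (Set.mem_singleton y))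
  have hF := Solvable.fittingSubgroup_isNilpotent (G := X)
  rw [htop] at hF
  exact Group.nilpotent_of_mulEquiv topEquiv

variable [Finite G]

theorem TICent.isCNGroup (h : TICent G) : Cfsg.IsCNGroup G := fun x hx =>
  isNilpotent_of_conj_commute fun a y => Subtype.ext (h.conj_commute hx y.2 a.2).eq

/-- With a non-trivial centre the group is nilpotent. -/
theorem TICent.isNilpotent_of_center_ne_bot (h : TICent G) (hZ : center G ≠ ⊥) :
    Group.IsNilpotent G := by
  obtain ⟨z, hz, hz1⟩ := (center G).bot_or_exists_ne_one.resolve_left hZ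
  refine isNilpotent_of_conj_commute fun a y => h.conj_commute hz1 ?_ ?_ <;>
    exact mem_cent.2 (mem_center_iff.1 hz _)

/-- With a non-trivial normal nilpotent subgroup the group is solvable. -/
theorem TICent.isSolvable_of_fitting_ne_bot (h : TICent G)
    (hF : Cfsg.fittingSubgroup G ≠ ⊥) : Group.IsSolvable G := by
  classical
  have hCN := h.isCNGroup
  set F := Cfsg.fittingSubgroup G with hFdef
  have hFn : F.Normal := Solvable.fittingSubgroup_normal
  have hFnil : Group.IsNilpotent F := Solvable.fittingSubgroup_isNilpotent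
  have hFs : Group.IsSolvable F := inferInstance
  have : Nontrivial F := (nontrivial_iff_ne_bot F).2 hF
  obtain ⟨u, huZ', hu1⟩ := (Subgroup.bot_or_exists_ne_one _).resolve_left
    (Solvable.inf_center_ne_bot (N := (⊤ : Subgroup F)) top_ne_bot)
  have huZ : u ∈ center F := (mem_inf.1 huZ').2
  have hu1' : (u : G) ≠ 1 := fun e => hu1 (Subtype.ext e)
  -- centralisers of non-identity elements of `F` lie in `F`
  have hcent : ∀ f ∈ F, f ≠ 1 → centralizer ({f} : Set G) ≤ F := by
    intro f hf hf1
    have hn : (centralizer ({f} : Set G)).Normal := by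
      rw [← normalizer_eq_top_iff, eq_top_iff]
      intro g _
      refine h.mem_normalizer
        (mem_cent.2 (congrArg Subtype.val (mem_center_iff.1 huZ ⟨f, hf⟩)).symm) hu1' ?_
      have hmem : g * (u : G) * g⁻¹ ∈ F := hFn.conj_mem _ u.2 g
      have hc : Commute (⟨g⁻¹ * f * g, by simpa using hFn.conj_mem _ hf g⁻¹⟩ : F) u :=
        mem_center_iff.1 huZ _
      have hc' := (hc.map F.subtype).map (MulAut.conj g).toMonoidHom
      refine mem_cent.2 ?_
      simpa [mul_assoc] using hc'.symm
    exact Solvable.le_fittingSubgroup (hCN f hf1)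
  have hquot := Cfsg.Agent.S1473.result hCN F hFs
  suffices Group.IsSolvable (G ⧸ F) from
    Group.isSolvable_of_ker_le_range F.subtype (QuotientGroup.mk' F) (by
      rw [QuotientGroup.ker_mk', range_subtype])
  by_cases hodd : Odd (Nat.card (G ⧸ F))
  · exact Cfsg.Agent.S0183.result hodd hquot
  -- an involution outside `F` acts without fixed points
  have : Fact (Nat.Prime 2) := ⟨Nat.prime_two⟩
  have hev : 2 ∣ Nat.card (G ⧸ F) := even_iff_two_dvd.1 (Nat.not_odd_iff_even.1 hodd)
  have hFodd : ¬ 2 ∣ Nat.card F := by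
    intro hd
    obtain ⟨S⟩ : Nonempty (Sylow 2 G) := inferInstance
    obtain ⟨⟨t, htF⟩, ht⟩ := exists_prime_orderOf_dvd_card' 2 hd
    rw [Subgroup.orderOf_mk] at ht
    have htne : t ≠ 1 := fun e => by rw [e, orderOf_one] at ht; omega
    obtain ⟨R, hR⟩ := (IsPGroup.of_card (n := 1) (by rw [Nat.card_zpowers, ht, pow_one]) :
      IsPGroup 2 (zpowers t)).exists_le_sylow
    have : Nontrivial (R : Subgroup G) :=
      ⟨⟨t, hR (mem_zpowers t)⟩, 1, fun e => htne (congrArg Subtype.val e)⟩
    -- a non-identity element of `F` central in the Sylow subgroup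
    have hne : F.subgroupOf (R : Subgroup G) ≠ ⊥ := fun e => htne (by
      have h1 : (⟨t, hR (mem_zpowers t)⟩ : (R : Subgroup G)) ∈ F.subgroupOf (R : Subgroup G) := htF
      rw [e, mem_bot] at h1
      exact congrArg Subtype.val h1)
    have := R.isPGroup'.isNilpotent
    obtain ⟨w, hw, hw1⟩ := (Subgroup.bot_or_exists_ne_one _).resolve_left
      (Solvable.inf_center_ne_bot (N := F.subgroupOf (R : Subgroup G)) hne)
    have hRF : (R : Subgroup G) ≤ F := fun r hr => hcent (w : G) (mem_inf.1 hw).1
      (fun e => hw1 (Subtype.ext e))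
      (mem_cent.2 (congrArg Subtype.val (mem_center_iff.1 (mem_inf.1 hw).2 ⟨r, hr⟩)))
    exact R.not_dvd_index ((F.index_eq_card ▸ hev : 2 ∣ F.index).trans (index_dvd_of_le hRF))
  obtain ⟨j, hj⟩ := exists_prime_orderOf_dvd_card' (G := G) 2
    (hev.trans (F.card_quotient_dvd_card))
  have hj2 : j * j = 1 := by rw [← sq, ← hj, pow_orderOf_eq_one]
  have hjinv : j⁻¹ = j := inv_eq_of_mul_eq_one_left hj2
  have hjF : j ∉ F := fun hm => hFodd (hj ▸ F.orderOf_dvd_natCard hm)
  have hfpf : ∀ f ∈ F, Commute j f → f = 1 := fun f hf hc => by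
    by_contra hf1
    exact hjF (hcent f hf hf1 (mem_cent.2 hc))
  have hinv : ∀ f ∈ F, j * f * j⁻¹ = f⁻¹ := by
    let φ : F →* F := (MulAut.conjNormal j : MulAut F).toMonoidHom
    have hφ : MonoidHom.FixedPointFree φ := fun f hf =>
      Subtype.ext (hfpf f f.2 (show Commute j (f : G) from mul_inv_eq_iff_eq_mul.1
        ((MulAut.conjNormal_apply j f).symm.trans (congrArg Subtype.val hf))))
    have hinvol : Function.Involutive φ := fun f => Subtype.ext (by
      simp only [φ, MulEquiv.coe_toMonoidHom, MulAut.conjNormal_apply, hjinv]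
      rw [← mul_assoc, ← mul_assoc, hj2, one_mul, mul_assoc, hj2, mul_one])
    intro f hf
    have h' := congrArg Subtype.val (congrFun (hφ.coe_eq_inv_of_involutive hinvol) ⟨f, hf⟩)
    simpa [φ] using h'
  have hcentral : center (G ⧸ F) ≠ ⊥ := by
    intro e
    have hmem : QuotientGroup.mk' F j ∈ center (G ⧸ F) := by
      rw [mem_center_iff]
      intro q
      obtain ⟨g, rfl⟩ := QuotientGroup.mk'_surjective F q
      have hc : j * (g * j * g⁻¹) ∈ F := by
        obtain ⟨f, hf, hf1⟩ := F.bot_or_exists_ne_one.resolve_left hF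
        refine hcent f hf hf1 (mem_cent.2 (mul_inv_eq_iff_eq_mul.1 ?_))
        have h1 := hinv _ (by simpa using hFn.conj_mem _ hf g⁻¹ : g⁻¹ * f * g ∈ F)
        calc j * (g * j * g⁻¹) * f * (j * (g * j * g⁻¹))⁻¹
            = j * (g * (j * (g⁻¹ * f * g) * j⁻¹) * g⁻¹) * j⁻¹ := by group
          _ = (j * f * j⁻¹)⁻¹ := by rw [h1]; group
          _ = f := by rw [hinv f hf, inv_inv]
      have h2 := (QuotientGroup.eq_one_iff _).2 hc
      change QuotientGroup.mk' F (j * (g * j * g⁻¹)) = 1 at h2
      rw [← mul_assoc, ← mul_assoc, map_mul, map_inv, mul_inv_eq_one] at h2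
      calc QuotientGroup.mk' F g * QuotientGroup.mk' F j
          = QuotientGroup.mk' F j * QuotientGroup.mk' F (j * g * j) := by
            simp only [map_mul, ← mul_assoc]
            rw [← map_mul _ j j, hj2, map_one, one_mul]
        _ = QuotientGroup.mk' F j * QuotientGroup.mk' F g := by rw [h2]
    rw [e, mem_bot] at hmem
    exact hjF ((QuotientGroup.eq_one_iff j).1 hmem)
  -- a CN-group with a non-trivial centre is nilpotent
  obtain ⟨c, hc, hc1⟩ := (center (G ⧸ F)).bot_or_exists_ne_one.resolve_left hcentral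
  have hnil := hquot c hc1
  rw [show centralizer ({c} : Set (G ⧸ F)) = ⊤ from
    eq_top_iff.2 fun g _ => mem_cent.2 (mem_center_iff.1 hc g)] at hnil
  have := Group.nilpotent_of_mulEquiv (topEquiv (G := G ⧸ F))
  infer_instance

end CfsgLib.TICentralizers
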