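import Mathlib
import Cfsg.Agent.TICentralizers.Basic
import Cfsg.Agent.S4066
import Cfsg.Agent.S1476

/-!
# Soluble groups in which every centraliser is a T.I. subgroup
-/

set_option autoImplicit false
set_option linter.unusedSectionVars false

namespace CfsgLib.TICentralizers

open Subgroup

variable {G : Type*} [Group G] [Finite G]

theorem TICent.not_threeStep (h : TICent G) {p : ℕ} [Fact p.Prime] :
    ¬ Cfsg.IsThreeStepGroup p G := by
  rintro ⟨hP, A, -, -, -, hcop, hn, hne, ⟨n, hidx⟩, -, -⟩
  set P := Cfsg.pCore p G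
  obtain ⟨S⟩ : Nonempty (Sylow p G) := inferInstance
  have hSn : (S : Subgroup G).Normal := by
    have : Subsingleton (Sylow p G) := ⟨fun Q R => by
      by_contra hQR
      refine hP (le_bot_iff.1 ?_)
      rw [← Cfsg.Agent.S4066.result h Q R hQR]
      exact le_inf (Solvable.pCore_le_sylow Q) (Solvable.pCore_le_sylow R)⟩
    exact Sylow.normal_of_subsingleton S
  have hle : (S : Subgroup G) ≤ P := Solvable.le_pCore S.isPGroup'
  rcases Nat.eq_zero_or_pos n with rfl | hpos
  · exact hne (index_eq_one.1 (by rw [hidx, pow_zero]))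
  · refine S.not_dvd_index ((hidx ▸ dvd_pow_self p hpos.ne' : p ∣ (P ⊔ A).index).trans
      (index_dvd_of_le ?_))
    exact hle.trans le_sup_left

/-- A generalised quaternion subgroup has order `8` (or `4`). -/
theorem TICent.quaternion_le (h : TICent G) {Q : Subgroup G} {n : ℕ}
    (e : Q ≃* QuaternionGroup (2 ^ n)) : n ≤ 1 := by
  by_contra hn
  push Not at hn
  set N := 2 ^ n with hN
  have hN4 : 4 ≤ N := by
    calc 4 = 2 ^ 2 := rfl
      _ ≤ 2 ^ n := Nat.pow_le_pow_right (by norm_num) hn
  set z : QuaternionGroup N := .a (N : ZMod (2 * N)) with hz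
  have hz1 : z ≠ 1 := by
    intro e1
    rw [hz, QuaternionGroup.one_def, QuaternionGroup.a.injEq,
      ZMod.natCast_eq_zero_iff] at e1
    have := Nat.le_of_dvd (by omega) e1
    omega
  have hNN : (N : ZMod (2 * N)) + N = 0 := by
    rw [← Nat.cast_add, ← two_mul, ZMod.natCast_self]
  have hc1 : Commute (QuaternionGroup.xa 0 : QuaternionGroup N) z := by
    show QuaternionGroup.xa 0 * z = z * QuaternionGroup.xa 0
    simp only [hz, QuaternionGroup.xa_mul_a, QuaternionGroup.a_mul_xa, zero_add, zero_sub]
    exact congrArg _ (eq_neg_of_add_eq_zero_left hNN)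
  have hc2 : Commute (QuaternionGroup.a 1 : QuaternionGroup N) z := by
    show QuaternionGroup.a 1 * z = z * QuaternionGroup.a 1
    simp [hz, add_comm]
  let f : QuaternionGroup N →* G := Q.subtype.comp e.symm.toMonoidHom
  have hf : Function.Injective f := Q.subtype_injective.comp e.symm.injective
  have h1 := h.conj_commute (x := f z) (y := f (.xa 0)) (a := f (.a 1))
    (fun e1 => hz1 (hf (e1.trans (map_one f).symm))) (mem_cent.2 (hc1.map f))
    (mem_cent.2 (hc2.map f))
  rw [← map_inv f, ← map_mul, ← map_mul] at h1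
  have h2 := hf ((map_mul f _ _).trans (h1.eq.trans (map_mul f _ _).symm))
  have hinv : (QuaternionGroup.a 1 : QuaternionGroup N)⁻¹ = .a (-1) := rfl
  simp only [hinv, QuaternionGroup.a_mul_xa, QuaternionGroup.xa_mul_a, QuaternionGroup.xa_mul_xa,
    QuaternionGroup.a.injEq] at h2
  have h4 : ((4 : ℕ) : ZMod (2 * N)) = 0 := by
    push_cast
    linear_combination h2
  rw [ZMod.natCast_eq_zero_iff] at h4
  have := Nat.le_of_dvd (by omega) h4
  omega

/-- The soluble case. -/
theorem TICent.solvable_case (h : TICent G) [Group.IsSolvable G] :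
    Group.IsNilpotent G ∨
      ∃ H : Subgroup G, Cfsg.IsFrobeniusComplement H ∧
        (IsCyclic H ∨ ∃ m : ℕ, Odd m ∧
          Nonempty (H ≃* Multiplicative (ZMod m) × QuaternionGroup 2)) := by
  rcases Cfsg.Agent.S1476.result h.isCNGroup with hnil | ⟨K, E, -, -, hE, hcase⟩ | ⟨p, hp, hT⟩
  · exact Or.inl hnil
  · refine Or.inr ⟨E, hE, ?_⟩
    rcases hcase with hcyc | ⟨C, Q, hsup, hcomm, hC, hodd, n, ⟨e⟩⟩
    · exact Or.inl hcyc
    have hn := h.quaternion_le e
    have hQcard : Nat.card Q = 4 * 2 ^ n := by
      rw [Nat.card_congr e.toEquiv, Nat.card_eq_fintype_card, QuaternionGroup.card]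
    have hco : (Nat.card C).Coprime (Nat.card Q) := by
      rw [hQcard, show 4 * 2 ^ n = 2 ^ (2 + n) by rw [pow_add]; norm_num]
      exact (Nat.coprime_two_right.2 hodd).pow_right _
    let ψ : C × Q →* G := MonoidHom.noncommCoprod C.subtype Q.subtype
      fun a b => show Commute (C.subtype a) (Q.subtype b) from hcomm a a.2 b b.2
    have hψ : Function.Injective ψ := by
      rw [injective_iff_map_eq_one]
      rintro ⟨a, b⟩ he
      have he' : (a : G) * (b : G) = 1 := he
      have ha : (a : G) = 1 := orderOf_eq_one_iff.1 <| Nat.dvd_one.1 <| by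
        rw [← hco.gcd_eq_one]
        refine Nat.dvd_gcd (C.orderOf_dvd_natCard a.2) ?_
        rw [eq_inv_of_mul_eq_one_left he', orderOf_inv]
        exact Q.orderOf_dvd_natCard b.2
      exact Prod.ext (Subtype.ext ha) (Subtype.ext (by simpa [ha] using he'))
    have hrange : ψ.range = E := by
      simp only [ψ]
      rw [MonoidHom.noncommCoprod_range, range_subtype, range_subtype, hsup]
    let eE : E ≃* C × Q :=
      ((MonoidHom.ofInjective hψ).trans (MulEquiv.subgroupCongr hrange)).symm
    let eC : C ≃* Multiplicative (ZMod (Nat.card C)) := (zmodCyclicMulEquiv hC).symm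
    interval_cases n
    · refine Or.inl ?_
      have hQc : IsCyclic (Q : Subgroup G) := by
        have := QuaternionGroup.quaternionGroup_one_isCyclic
        exact isCyclic_of_surjective e.symm.toMonoidHom e.symm.surjective
      have : IsCyclic (C × Q) := Group.isCyclic_prod_iff.2 ⟨hC, hQc, hco⟩
      exact isCyclic_of_surjective eE.symm.toMonoidHom eE.symm.surjective
    · exact Or.inr ⟨_, hodd, ⟨eE.trans (eC.prodCongr e)⟩⟩
  · have := Fact.mk hp
    exact absurd hT h.not_threeStep

end CfsgLib.TICentralizers
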