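import Cfsg.Agent.TICentralizers.Local
import Cfsg.Agent.Coherence.TIKernel

/-!
# Insoluble groups with T.I. centralisers: a non-abelian kernel is a 2-group

Otherwise Feit's coherence theorem yields an exceptional character trivial on an involution.
-/

set_option autoImplicit false
set_option linter.unusedSectionVars false
set_option linter.style.haveILetI false

namespace CfsgLib.TICentralizers

open Subgroup CfsgLib.SEmbed CfsgLib.Small CfsgLib.InvCentAbelian CfsgLib.Characters Cfsg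

universe u v

variable {G : Type u} [Group G] {Ω : Type v} [MulAction G Ω] [Fintype G] (h : Conf G Ω)

noncomputable local instance fintypeSubNotTwoGroup (M : Subgroup G) : Fintype M := Fintype.ofFinite M

include h

set_option maxHeartbeats 2000000 in
/-- A non-abelian kernel is a `2`-group. -/
theorem Conf.isPGroup_of_nonabelian {x : Ω}
    (hnab : ¬ ∀ a ∈ cA G x, ∀ b ∈ cA G x, a * b = b * a) :
    IsPGroup 2 (cA G x) := by
  classical
  haveI : Fact (Nat.Prime 2) := ⟨Nat.prime_two⟩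
  by_contra hnp
  set N := MulAction.stabilizer G x with hNdef
  set A := cA G x with hAdef
  set K := A.subgroupOf N with hKdef
  haveI hKn : K.Normal := h.sub_normal x
  haveI : Fintype K := Fintype.ofFinite K
  set n := Nat.card A with hn
  set r := Nat.card (invMap (G := G) x x) with hr
  have hr3 : 3 ≤ r := h.three_le x
  have hnpos : 0 < n := Nat.card_pos
  have hcardK : Nat.card K = n := h.card_sub x
  have hindex : K.index = r := h.index_sub x
  have hcardN : Nat.card N = n * r := h.card_stab x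
  have hnorm : Subgroup.normalizer (A : Set G) = N := h.normalizer_cA x
  have hfix := h.hfix x
  have hTI := h.isTI x
  have hnilK : Group.IsNilpotent K := by
    have := h.isNilpotent x
    exact Group.nilpotent_of_mulEquiv (Subgroup.subgroupOfEquivOfLe (h.cA_le_stabilizer x)).symm
  have hsolv : Group.IsSolvable K := inferInstance
  have hnabK : ¬ ⁅K, K⁆ ≤ ⊥ := by
    intro hle
    refine hnab fun a ha b hb => ?_
    have h1 := hle (Subgroup.commutator_mem_commutator
      (show (⟨a, h.cA_le_stabilizer x ha⟩ : N) ∈ K from ha)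
      (show (⟨b, h.cA_le_stabilizer x hb⟩ : N) ∈ K from hb))
    rw [Subgroup.mem_bot, commutatorElement_eq_one_iff_commute] at h1
    exact congrArg Subtype.val h1.eq
  have hcard2 : ∀ p m : ℕ, p.Prime → Nat.card K ≠ p ^ m := by
    intro p m hp e
    obtain ⟨i, hi, hix⟩ := h.exists_inv x
    have h2 : 2 ∣ p ^ m := by
      rw [← e, hcardK, ← hi]
      exact A.orderOf_dvd_natCard (h.invol_mem hi hix)
    have hp2 : 2 = p :=
      (Nat.prime_dvd_prime_iff_eq Nat.prime_two hp).1 (Nat.prime_two.dvd_of_dvd_pow h2)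
    exact hnp (IsPGroup.of_card (n := m) (by rw [hn] at hcardK; rw [← hcardK, e, hp2]))
  obtain ⟨hiso, hiso1⟩ := Coherence.ti_isometry (H := A) (L := N) hTI hnorm
  obtain ⟨-, τ₁, hτ₁, hagree⟩ := Coherence.feit_coherence hfix hnilK (h.sub_lt_top x) hnabK hiso
    hiso1 (Or.inr hcard2)
  obtain ⟨hadd, hzsmul, hinner, hgen⟩ := hτ₁
  have hFirr := Coherence.frob_irr (A := (⊥ : Subgroup N)) hfix
  set F := (Coherence.finite_irr_set hFirr).toFinset with hF
  have hFcoe : (↑F : Set (N → ℂ)) = inducedIrrAbove K ⊥ := Set.Finite.coe_toFinset _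
  have hmemF : ∀ θ, θ ∈ F ↔ θ ∈ inducedIrrAbove K ⊥ := fun θ => Set.Finite.mem_toFinset _
  have hirr : ∀ θ ∈ F, IsIrrCharacter N θ := fun θ hθ => hFirr θ ((hmemF θ).1 hθ)
  set e : (N → ℂ) → ℕ := Coherence.relDeg K with he
  have hdeg : ∀ θ ∈ F, θ 1 = (e θ : ℂ) * r := fun θ hθ => by
    rw [Coherence.relDeg_spec hFcoe hθ, hindex]
  have hoff : ∀ θ ∈ F, ∀ a : N, a ∉ K → θ a = 0 := by
    intro θ hθ a ha
    obtain ⟨φ, -, -, -, rfl⟩ := (hmemF θ).1 hθ
    exact OddOrderChar.indFun_normal_eq_zero K φ ha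
  have hspan : ∀ θ ∈ F, θ ∈ zspan (inducedIrrAbove K ⊥) := fun θ hθ =>
    Submodule.subset_span ((hmemF θ).1 hθ)
  have hne1 : ∀ θ ∈ F, θ ≠ fun _ => 1 := by
    intro θ hθ e1
    obtain ⟨a, -, ha⟩ := SetLike.exists_of_lt (h.sub_lt_top x)
    have := hoff θ hθ a ha
    rw [e1] at this
    exact one_ne_zero this
  have hsumK : ∀ θ ∈ F, ∑ k : K, θ k = 0 := by
    intro θ hθ
    rw [h.sum_sub_of_off θ (hoff θ hθ)]
    have h0 := classInner_isIrr_ne (hirr θ hθ) isIrr_one (hne1 θ hθ)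
    rw [classInner, mul_eq_zero] at h0
    simpa using h0.resolve_left (inv_ne_zero natCard_ne_zero)
  have hnormK : ∀ θ ∈ F, ∑ k : K, Complex.normSq (θ k) = (n : ℝ) * r := by
    intro θ hθ
    rw [h.sum_sub_of_off (fun a => Complex.normSq (θ a)) fun a ha => by
      rw [hoff θ hθ a ha, map_zero]]
    have h1 := classInner_isIrr_self (hirr θ hθ)
    rw [classInner] at h1
    simp only [Complex.mul_conj] at h1
    rw [inv_mul_eq_one₀ natCard_ne_zero, eq_comm, hcardN] at h1
    exact_mod_cast h1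
  -- the sum of the squares of the degrees
  have hsq : r * ∑ θ ∈ F, e θ ^ 2 + 1 = n := by
    have h1 := Coherence.sum_deg_sq_div K (⊥ : Subgroup N) F hFcoe
    rw [Finset.sum_congr rfl fun θ hθ => by
      rw [hdeg θ hθ, classInner_isIrr_self (hirr θ hθ), div_one, mul_pow], ← Finset.sum_mul,
      Subgroup.relIndex_bot_left, hcardK, hindex] at h1
    have hr0 : (r : ℂ) ≠ 0 := Nat.cast_ne_zero.2 (by omega)
    have h2 : ((r * ∑ θ ∈ F, e θ ^ 2 + 1 : ℕ) : ℂ) = (n : ℂ) := by
      push_cast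
      refine mul_left_cancel₀ hr0 ?_
      linear_combination h1
    exact_mod_cast h2
  set S := ∑ θ ∈ F, e θ ^ 2 with hS
  have hbig : (r + 1) * (r + 1) ≤ n := by
    obtain ⟨t, ht⟩ := Subgroup.card_dvd_of_le (h.invCore_le x)
    rw [h.card_invCore x, ← hr, ← hn] at ht
    have ht0 : 1 ≤ t := by
      by_contra h0
      have : t = 0 := by omega
      subst this
      omega
    have ht1 : t ≠ 1 := by
      rintro rfl
      have h1 := Subgroup.eq_of_le_of_card_ge (h.invCore_le x)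
        (by rw [h.card_invCore x, ← hr, ← hn, ht, mul_one])
      refine hnab fun a ha b hb => (h.commute_of_sq ha ?_ hb).eq
      rw [hAdef, ← h1] at ha
      exact ha.2
    have ht2 : 2 ≤ t := by omega
    have hSt : t < S := by
      by_contra hle
      push Not at hle
      have : r * S ≤ r * t := Nat.mul_le_mul_left r hle
      have : n = r * t + t := by rw [ht]; ring
      omega
    have h2 : r * (S - t) + 1 = t := by
      rw [Nat.mul_sub]
      have : r * t ≤ r * S := Nat.mul_le_mul_left r hSt.le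
      nlinarith [Nat.sub_add_cancel this]
    have : r * 1 ≤ r * (S - t) := Nat.mul_le_mul_left r (by omega)
    rw [ht]
    exact Nat.mul_le_mul_left _ (by omega)
  have hSlow : r + 2 ≤ S := by nlinarith
  -- a member of least degree
  have hZn := h.invCore_normal x
  set Z := (h.invCore x).subgroupOf N with hZ
  have hZK : Z < K := by
    refine lt_of_le_of_ne (fun a ha => h.invCore_le x ha) fun e1 => hnab fun a ha b hb =>
      (h.commute_of_sq ha ?_ hb).eq
    have : (⟨a, h.cA_le_stabilizer x ha⟩ : N) ∈ Z := e1 ▸ (show _ ∈ K from ha)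
    exact this.2
  obtain ⟨θ₁, hθ₁', hθ₁d⟩ := Coherence.exists_linear_mem K hsolv Z hZK
  have hθ₁ : θ₁ ∈ F := (hmemF θ₁).2 (Coherence.inducedIrrAbove_mono K bot_le hθ₁')
  rw [hindex] at hθ₁d
  have he1 : e θ₁ = 1 := by
    have h1 := hdeg θ₁ hθ₁
    rw [hθ₁d] at h1
    have h2 : e θ₁ * r = 1 * r := by
      rw [one_mul]; exact_mod_cast h1.symm
    exact Nat.eq_of_mul_eq_mul_right (by omega) h2
  have hθ₁Z : ∀ k : K, (k : N) ∈ Z → θ₁ k = θ₁ 1 := by
    obtain ⟨φ, -, -, hφ, rfl⟩ := hθ₁'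
    intro k hk
    rw [show (1 : N) = ((1 : K) : N) from rfl, OddOrderChar.indFun_normal_apply,
      OddOrderChar.indFun_normal_apply]
    congr 1
    refine Finset.sum_congr rfl fun g _ => ?_
    simp only [OddOrderChar.conjBy_apply]
    rw [hφ _ (hZn.conj_mem _ hk g)]
    congr 1
    exact Subtype.ext (by simp)
  -- the transition
  set f₁ := τ₁ θ₁ with hf₁
  set D : (N → ℂ) → (N → ℂ) := fun θ => θ + (-(e θ : ℤ)) • θ₁ with hD
  have hD1 : ∀ θ ∈ F, D θ 1 = 0 := fun θ hθ => by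
    simp [hD, hdeg θ hθ, hθ₁d]
  have hDmem : ∀ θ ∈ F, D θ ∈ zspanOn (inducedIrrAbove K ⊥) {1}ᶜ := fun θ hθ =>
    Coherence.mem_zspanOn_one.2
      ⟨Submodule.add_mem _ (hspan θ hθ) (Submodule.smul_mem _ _ (hspan θ₁ hθ₁)), hD1 θ hθ⟩
  have hsplit : ∀ θ ∈ F, indFun N (D θ) = τ₁ θ - (e θ : ℂ) • f₁ := by
    intro θ hθ
    have h1 : τ₁ (D θ) = indFun N (D θ) := hagree _ (hDmem θ hθ)
    rw [← h1, hadd θ (hspan θ hθ) _ (Submodule.smul_mem _ _ (hspan θ₁ hθ₁)),
      hzsmul θ₁ (hspan θ₁ hθ₁), ← Int.cast_smul_eq_zsmul ℂ]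
    push_cast
    rw [neg_smul, ← sub_eq_add_neg]
  have hshift : ∀ θ ∈ F, ∀ k : K,
      τ₁ θ (k : N) = θ k + (e θ : ℂ) * (f₁ (k : N) - θ₁ k) := by
    intro θ hθ k
    have hcl : IsClassFunction N (D θ) := by
      intro a b
      simp only [hD, Pi.add_apply, Pi.smul_apply]
      rw [isClassFunction_of_isIrr (hirr θ hθ) a b, isClassFunction_of_isIrr (hirr θ₁ hθ₁) a b]
    have hsupp : ∀ a : N, (a : G) ∉ A → D θ a = 0 := fun a ha => by
      simp [hD, hoff θ hθ a ha, hoff θ₁ hθ₁ a ha]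
    have h1 := Coherence.ti_ind_apply hTI hnorm hcl hsupp (hD1 θ hθ) (k : N) k.2
    rw [hsplit θ hθ] at h1
    simp only [hD, Pi.sub_apply, Pi.add_apply, Pi.smul_apply, smul_eq_mul, zsmul_eq_mul,
      Pi.mul_apply, Pi.neg_apply, Pi.natCast_apply, Int.cast_neg, Int.cast_natCast] at h1
    linear_combination h1
  have hf₁gen : IsGeneralizedCharacter G f₁ := hgen θ₁ (hspan θ₁ hθ₁)
  have hτinner : ∀ θ ∈ F, ∀ ψ ∈ F, classInner (τ₁ θ) (τ₁ ψ) = if θ = ψ then 1 else 0 := by
    intro θ hθ ψ hψ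
    rw [hinner θ (hspan θ hθ) ψ (hspan ψ hψ)]
    split_ifs with he'
    · rw [he']; exact classInner_isIrr_self (hirr ψ hψ)
    · exact classInner_isIrr_ne (hirr θ hθ) (hirr ψ hψ) he'
  -- the correction
  set P : N → ℂ := fun a => f₁ a with hP
  have hPgen : IsGeneralizedCharacter N P := isGen_restrict N hf₁gen
  obtain ⟨c₁, hc₁⟩ := Coherence.ci_int hPgen (Coherence.isGen_of_isIrr (hirr θ₁ hθ₁))
  set m : ℤ := c₁ - 1 with hm
  set Γ : K → ℂ := fun k => f₁ (k : N) - θ₁ k with hΓ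
  have hΓgen : IsGeneralizedCharacter K Γ :=
    Coherence.isGen_sub (isGen_restrict K hPgen)
      (isGen_restrict K (Coherence.isGen_of_isIrr (hirr θ₁ hθ₁)))
  obtain ⟨cN, hcN⟩ := Coherence.ci_int hΓgen (Coherence.isGen_of_isIrr isIrr_one)
  have hcoeff : ∀ φ : IrrCharacter K, (φ : K → ℂ) ≠ (fun _ => 1) →
      classInner Γ (φ : K → ℂ) = (m : ℂ) * (φ : K → ℂ) 1 := by
    intro φ hφ
    set ψ := indFun K (φ : K → ℂ) with hψdef
    have hψ : ψ ∈ F := (hmemF ψ).2 ((Coherence.ind_mem_iff K φ.2).2 ⟨hφ, fun a ha => by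
      rw [show a = 1 from Subtype.ext (Subgroup.mem_bot.1 ha)]⟩)
    have hψ1 : (e ψ : ℂ) = (φ : K → ℂ) 1 := by
      have h1 := hdeg ψ hψ
      rw [hψdef, Coherence.ind_one, hindex, ← hψdef, mul_comm] at h1
      exact (mul_right_cancel₀ (Nat.cast_ne_zero.2 (by omega)) h1).symm
    have hrec : ∀ χ : N → ℂ, IsClassFunction N χ →
        classInner (fun k : K => χ k) (φ : K → ℂ) = classInner χ ψ := fun χ hχ =>
      (classInner_indFun_right K _ hχ).symm
    have h2 : classInner P (D ψ) = classInner f₁ (indFun N (D ψ)) :=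
      (classInner_indFun_right N (D ψ) (isClassFunction_of_isGen hf₁gen)).symm
    rw [hsplit ψ hψ, classInner_sub_right, classInner_smul_right, hf₁,
      hτinner θ₁ hθ₁ ψ hψ, hτinner θ₁ hθ₁ θ₁ hθ₁, if_pos rfl, mul_one, map_natCast] at h2
    simp only [hD] at h2
    rw [classInner_add_right, ← Int.cast_smul_eq_zsmul ℂ, classInner_smul_right, map_intCast,
      hc₁] at h2
    push_cast at h2
    rw [show Γ = (fun k : K => P k) - (fun k : K => θ₁ k) from rfl, classInner_sub_left,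
      hrec P (isClassFunction_of_isGen hPgen), hrec θ₁ (isClassFunction_of_isIrr (hirr θ₁ hθ₁)),
      ← hψ1, hm]
    have h3 : classInner θ₁ ψ = if θ₁ = ψ then 1 else 0 := by
      split_ifs with he'
      · rw [← he']; exact classInner_isIrr_self (hirr θ₁ hθ₁)
      · exact classInner_isIrr_ne (hirr θ₁ hθ₁) (hirr ψ hψ) he'
    rw [h3]
    push_cast
    linear_combination h2
  have hΓval := apply_of_deg_coeff (isClassFunction_of_isGen hΓgen) hcN hcoeff
  set γ : ℤ := cN - m with hγ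
  have hΓoff : ∀ k : K, k ≠ 1 → Γ k = (γ : ℂ) := fun k hk => by
    rw [hΓval k, if_neg hk, add_zero, hγ]; push_cast; ring
  set φz : ℤ := r + γ + n * m with hφz
  have hf₁one : f₁ 1 = (φz : ℂ) := by
    have h1 := hΓval 1
    rw [if_pos rfl, hcardK] at h1
    simp only [hΓ, OneMemClass.coe_one, hθ₁d] at h1
    rw [hφz, hγ]
    push_cast
    linear_combination h1
  have hvals : ∀ θ ∈ F, ∀ k : K, k ≠ 1 → τ₁ θ (k : N) = θ k + (e θ : ℂ) * γ :=
    fun θ hθ k hk => by rw [hshift θ hθ k, show f₁ (k : N) - θ₁ k = (γ : ℂ) from hΓoff k hk]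
  have hvalone : ∀ θ ∈ F, τ₁ θ 1 = (e θ : ℂ) * φz := by
    intro θ hθ
    have h1 := hshift θ hθ 1
    simp only [OneMemClass.coe_one, hf₁one, hθ₁d, hdeg θ hθ] at h1
    linear_combination h1
  -- the signed irreducible characters
  have hσ : ∀ θ : F, ∃ μ : G → ℂ, IsIrrCharacter G μ ∧ ∃ σ : ℤ, (σ = 1 ∨ σ = -1) ∧
      τ₁ θ = (σ : ℂ) • μ := by
    intro θ
    rcases Coherence.gen_norm_one (hgen θ.1 (hspan θ.1 θ.2))
      (by rw [hτinner θ.1 θ.2 θ.1 θ.2, if_pos rfl]) with h1 | h1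
    · exact ⟨_, h1, 1, Or.inl rfl, by simp⟩
    · exact ⟨_, h1, -1, Or.inr rfl, by simp⟩
  choose μ hμ σ hσ1 hσμ using hσ
  have hσsq : ∀ θ : F, Complex.normSq (σ θ : ℂ) = 1 := fun θ => by
    rcases hσ1 θ with e | e <;> simp [e]
  have hμinj : Function.Injective μ := by
    intro a b hab
    by_contra hne
    have h1 := hτinner a.1 a.2 b.1 b.2
    rw [if_neg fun e => hne (Subtype.ext e), hσμ a, hσμ b, hab, classInner_smul_left,
      classInner_smul_right, classInner_isIrr_self (hμ b), mul_one, map_intCast] at h1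
    rcases hσ1 a with ea | ea <;> rcases hσ1 b with eb | eb <;> simp [ea, eb] at h1
  have hμne : ∀ θ : F, μ θ ≠ fun _ => 1 := by
    intro θ hθ1
    have h1 := hvalone θ.1 θ.2
    rw [hσμ θ, hθ1] at h1
    simp only [Pi.smul_apply, smul_eq_mul, mul_one] at h1
    have h1' : σ θ = (e θ.1 : ℤ) * φz := by exact_mod_cast h1
    have he0 : (e θ.1 : ℤ) = 1 := by
      have hd : (e θ.1 : ℤ) ∣ 1 := by
        rcases hσ1 θ with e' | e'
        · exact ⟨φz, by rw [← h1', e']⟩
        · exact ⟨-φz, by rw [mul_neg, ← h1', e', neg_neg]⟩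
      exact Int.eq_one_of_dvd_one (Int.natCast_nonneg _) hd
    have h2 : ∀ k ∈ (Finset.univ : Finset K).erase 1,
        (θ : N → ℂ) k = ((σ θ - γ : ℤ) : ℂ) := by
      intro k hk
      have h3 := hvals θ.1 θ.2 k (Finset.ne_of_mem_erase hk)
      rw [hσμ θ, hθ1, show ((e θ.1 : ℕ) : ℂ) = 1 by exact_mod_cast he0] at h3
      simp only [Pi.smul_apply, smul_eq_mul, mul_one] at h3
      push_cast
      linear_combination -h3
    have h3 := hsumK θ.1 θ.2
    rw [← Finset.add_sum_erase _ _ (Finset.mem_univ (1 : K)), OneMemClass.coe_one, hdeg θ.1 θ.2,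
      Finset.sum_congr rfl h2, Finset.sum_const, Finset.card_erase_of_mem (Finset.mem_univ _),
      Finset.card_univ, ← Nat.card_eq_fintype_card, hcardK, nsmul_eq_mul,
      show ((e θ.1 : ℕ) : ℂ) = 1 by exact_mod_cast he0, one_mul, Nat.cast_sub hnpos] at h3
    have h4 : (r : ℤ) + ((n : ℤ) - 1) * (σ θ - γ) = 0 := by
      rw [← Int.cast_inj (α := ℂ)]
      push_cast at h3 ⊢
      linear_combination h3
    have h5 : (r : ℤ) < (n : ℤ) - 1 := by nlinarith
    have h6 : σ θ - γ = 0 := by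
      by_contra h0
      rcases Int.lt_or_gt_of_ne h0 with h7 | h7 <;> nlinarith
    rw [h6] at h4
    omega
  -- the column at an element of the kernel
  obtain ⟨k₀, hk₀⟩ : ∃ k₀ : K, k₀ ≠ 1 := by
    haveI : Nontrivial K := Finite.one_lt_card_iff_nontrivial.1 (by rw [hcardK]; nlinarith)
    exact exists_ne 1
  set cN₀ := Nat.card (centralizer ({(k₀ : N)} : Set N)) with hcN₀
  have hk₀N : (k₀ : N) ≠ 1 := fun e => hk₀ (Subtype.ext e)
  set U := (Finset.univ : Finset (IrrCharacter N)).map ⟨Subtype.val, Subtype.val_injective⟩ with hU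
  have hFU : F ⊆ U := fun θ hθ =>
    Finset.mem_map.2 ⟨⟨θ, hirr θ hθ⟩, Finset.mem_univ _, rfl⟩
  have hR : ∀ χ ∈ U \ F, χ (k₀ : N) = χ 1 := by
    intro χ hχ
    obtain ⟨hU', hF'⟩ := Finset.mem_sdiff.1 hχ
    obtain ⟨χ', -, rfl⟩ := Finset.mem_map.1 hU'
    by_contra hne
    refine hF' ((hmemF _).2 ?_)
    rw [Coherence.frob_eq_nontrivial hfix]
    exact ⟨χ'.2, k₀, k₀.2, hne⟩
  have hRsq : ∑ χ ∈ U \ F, χ 1 ^ 2 = (r : ℂ) := by
    rw [Finset.sum_sdiff_eq_sub hFU, hU, Finset.sum_map,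
      Finset.sum_congr (s₁ := F) rfl fun θ hθ => by rw [hdeg θ hθ, mul_pow], ← Finset.sum_mul]
    show (∑ χ : IrrCharacter N, (χ : N → ℂ) 1 ^ 2) - _ = _
    rw [sum_degree_sq, hcardN]
    have h1 : ((r * S + 1 : ℕ) : ℂ) = (n : ℂ) := by rw [hsq]
    rw [hS] at h1
    push_cast at h1 ⊢
    linear_combination -(r : ℂ) * h1
  have hlin : ∑ θ ∈ F, (e θ : ℂ) * θ (k₀ : N) = -1 := by
    have h1 : ∑ χ ∈ U, χ 1 * χ (k₀ : N) = 0 := by
      rw [hU, Finset.sum_map]
      show ∑ χ : IrrCharacter N, (χ : N → ℂ) 1 * (χ : N → ℂ) (k₀ : N) = _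
      rw [sum_degree_mul, if_neg hk₀N]
    rw [← Finset.sum_sdiff hFU, Finset.sum_congr rfl fun χ hχ => by rw [hR χ hχ, ← sq], hRsq,
      Finset.sum_congr rfl fun θ hθ => by
        rw [hdeg θ hθ, show (e θ : ℂ) * r * θ (k₀ : N) = r * ((e θ : ℂ) * θ (k₀ : N)) by ring],
      ← Finset.mul_sum] at h1
    refine mul_left_cancel₀ (Nat.cast_ne_zero.2 (by omega : r ≠ 0)) ?_
    linear_combination h1
  have hquad : ∑ θ ∈ F, Complex.normSq (θ (k₀ : N)) = (cN₀ : ℝ) - r := by
    have h1 : ∑ χ ∈ U, Complex.normSq (χ (k₀ : N)) = (cN₀ : ℝ) := by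
      rw [hU, Finset.sum_map]
      exact sum_normSq_irr _
    have h2 : ∑ χ ∈ U \ F, Complex.normSq (χ (k₀ : N)) = (r : ℝ) := by
      have h3 : ((∑ χ ∈ U \ F, Complex.normSq (χ (k₀ : N)) : ℝ) : ℂ) = (r : ℂ) := by
        rw [← hRsq, Complex.ofReal_sum]
        refine Finset.sum_congr rfl fun χ hχ => ?_
        obtain ⟨χ', -, rfl⟩ := Finset.mem_map.1 (Finset.mem_sdiff.1 hχ).1
        rw [← Complex.mul_conj, hR _ hχ]
        obtain ⟨d, -, hd⟩ := exists_degree_pos χ'.2
        simp only [Function.Embedding.coeFn_mk, hd, map_natCast, sq]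
      exact_mod_cast h3
    rw [← Finset.sum_sdiff hFU, h2] at h1
    linarith
  have hγ0 : γ = 0 := by
    have hbound := sum_normSq_le' μ hμ hμinj hμne ((k₀ : N) : G)
    rw [← h.card_centralizer_sub (show ((k₀ : N) : G) ∈ cA G x from k₀.2) hk₀N, ← hcN₀] at hbound
    have hterm : ∀ θ : F, Complex.normSq (μ θ ((k₀ : N) : G)) =
        Complex.normSq ((θ : N → ℂ) k₀) + 2 * (γ : ℝ) * ((e θ.1 : ℂ) * (θ : N → ℂ) k₀).re +
          (γ : ℝ) ^ 2 * (e θ.1 : ℝ) ^ 2 := by
      intro θ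
      have h1 := hvals θ.1 θ.2 k₀ hk₀
      rw [hσμ θ, Pi.smul_apply, smul_eq_mul] at h1
      calc Complex.normSq (μ θ ((k₀ : N) : G))
          = Complex.normSq ((σ θ : ℂ) * μ θ ((k₀ : N) : G)) := by
            rw [map_mul, hσsq θ, one_mul]
        _ = Complex.normSq ((θ : N → ℂ) k₀ + (e θ.1 : ℂ) * γ) := by rw [h1]
        _ = _ := by simp [Complex.normSq_apply]; ring
    rw [Finset.sum_congr rfl fun θ _ => hterm θ, Finset.sum_add_distrib, Finset.sum_add_distrib,
      ← Finset.mul_sum, ← Finset.mul_sum, ← Complex.re_sum,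
      Finset.sum_coe_sort F (fun θ => Complex.normSq (θ (k₀ : N))),
      Finset.sum_coe_sort F (fun θ => (e θ : ℂ) * θ (k₀ : N)),
      Finset.sum_coe_sort F (fun θ => (e θ : ℝ) ^ 2), hquad, hlin] at hbound
    simp only [Complex.neg_re, Complex.one_re] at hbound
    have hSR : ∑ θ ∈ F, (e θ : ℝ) ^ 2 = (S : ℝ) := by rw [hS]; push_cast; rfl
    rw [hSR] at hbound
    have h2 : (γ : ℤ) ^ 2 * S - 2 * γ + 1 ≤ r := by
      have : (γ : ℝ) ^ 2 * S - 2 * γ + 1 ≤ (r : ℝ) := by linarith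
      exact_mod_cast this
    by_contra h0
    have h3 : 1 ≤ γ ^ 2 := by
      rcases Int.lt_or_gt_of_ne h0 with h7 | h7 <;> nlinarith
    have hS' : (r : ℤ) + 2 ≤ S := by exact_mod_cast hSlow
    rcases le_or_gt γ 1 with h4 | h4
    · nlinarith
    · nlinarith
  -- the row of the character of least degree
  have hm0 : m = 0 := by
    set μ₁ := μ ⟨θ₁, hθ₁⟩ with hμ₁
    set s₁ := σ ⟨θ₁, hθ₁⟩ with hs₁
    have hf : f₁ = (s₁ : ℂ) • μ₁ := hσμ ⟨θ₁, hθ₁⟩
    have hns : ∀ g : G, Complex.normSq (f₁ g) = Complex.normSq (μ₁ g) := fun g => by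
      rw [hf, Pi.smul_apply, smul_eq_mul, map_mul, hs₁, hσsq, one_mul]
    have htot : ∑ g : G, Complex.normSq (f₁ g) = ((n : ℝ) + 1) * n * r := by
      simp only [hns]
      have h1 := classInner_isIrr_self (hμ ⟨θ₁, hθ₁⟩)
      rw [classInner] at h1
      simp only [Complex.mul_conj] at h1
      rw [inv_mul_eq_one₀ natCard_ne_zero, eq_comm, h.card_group x, ← hn, ← hr] at h1
      rw [hμ₁]
      push_cast at h1
      exact_mod_cast h1
    have hclns : IsClassFunction G (fun g => ((Complex.normSq (f₁ g) : ℝ) : ℂ)) := fun a b => by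
      simp only [isClassFunction_of_isGen hf₁gen a b]
    haveI := finite_points h.uf
    haveI := Fintype.ofFinite Ω
    set T : Ω → Finset G := fun y => Finset.univ.filter fun g => g ∈ cA G y ∧ g ≠ 1 with hT
    have hdisj : ((Finset.univ : Finset Ω) : Set Ω).PairwiseDisjoint T := by
      intro y _ z _ hyz
      refine Finset.disjoint_left.2 fun g hg hg' => ?_
      simp only [hT, Finset.mem_filter] at hg hg'
      exact hg.2.2 (h.eq_one_of_mem_two hyz hg.2.1 hg'.2.1)
    have hnot : (1 : G) ∉ (Finset.univ : Finset Ω).biUnion T := by simp [hT]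
    have hlow := Finset.sum_le_sum_of_subset_of_nonneg
      (Finset.subset_univ (insert (1 : G) ((Finset.univ : Finset Ω).biUnion T)))
      (f := fun g => Complex.normSq (f₁ g)) fun g _ _ => Complex.normSq_nonneg _
    rw [Finset.sum_insert hnot, Finset.sum_biUnion hdisj, htot] at hlow
    have heach : ∀ y : Ω, ∑ g ∈ T y, Complex.normSq (f₁ g) = (n : ℝ) * r - (r : ℝ) ^ 2 := by
      intro y
      obtain ⟨c, rfl⟩ := h.uf.transitive x y
      have hinv : ∀ a : G, Complex.normSq (f₁ (c * a * c⁻¹)) = Complex.normSq (f₁ a) := fun a => by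
        rw [isClassFunction_of_isGen hf₁gen a c]
      rw [show T (c • x) = ((Finset.univ : Finset K).erase 1).image
          (fun k : K => c * ((k : N) : G) * c⁻¹) from ?_, Finset.sum_image ?_]
      · rw [Finset.sum_congr rfl fun k hk => by
          rw [hinv, show f₁ ((k : N) : G) = θ₁ k from by
            have := hvals θ₁ hθ₁ k (Finset.ne_of_mem_erase hk)
            rwa [hγ0, Int.cast_zero, mul_zero, add_zero] at this],
          Finset.sum_erase_eq_sub (Finset.mem_univ _), hnormK θ₁ hθ₁, OneMemClass.coe_one, hθ₁d,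
          Complex.normSq_natCast, sq]
      · intro a _ b _ e'
        exact Subtype.ext (Subtype.ext (mul_left_cancel (mul_right_cancel e')))
      · ext g
        simp only [hT, Finset.mem_filter, Finset.mem_univ, true_and, Finset.mem_image,
          Finset.mem_erase, and_true]
        constructor
        · rintro ⟨hg, hg1⟩
          have hg' : c⁻¹ * g * c ∈ cA G x := by simpa using conj_mem_cA c⁻¹ hg
          refine ⟨⟨⟨_, h.cA_le_stabilizer x hg'⟩, hg'⟩, fun e' => hg1 ?_, by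
            show c * (c⁻¹ * g * c) * c⁻¹ = g; group⟩
          have e'' : c⁻¹ * g * c = 1 := congrArg (fun k : K => ((k : N) : G)) e'
          calc g = c * (c⁻¹ * g * c) * c⁻¹ := by group
            _ = 1 := by rw [e'']; group
        · rintro ⟨k, hk, rfl⟩
          exact ⟨conj_mem_cA c k.2, fun e' => hk (Subtype.ext (Subtype.ext
            (conj_eq_one_iff.1 e')))⟩
    rw [Finset.sum_congr rfl fun y _ => heach y, Finset.sum_const, Finset.card_univ,
      ← Nat.card_eq_fintype_card, h.card_points x, nsmul_eq_mul, ← hn, hf₁one] at hlow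
    push_cast at hlow
    have h2 : (φz : ℤ) ^ 2 ≤ ((n : ℤ) + 1) * (r : ℤ) ^ 2 := by
      rw [show Complex.normSq ((φz : ℤ) : ℂ) = ((φz : ℝ)) ^ 2 by
        simp [Complex.normSq_apply, sq]] at hlow
      have : (φz : ℝ) ^ 2 ≤ ((n : ℝ) + 1) * (r : ℝ) ^ 2 := by nlinarith
      exact_mod_cast this
    rw [hφz, hγ0, add_zero] at h2
    by_contra h0
    have hb : ((r : ℤ) + 1) * (r + 1) ≤ n := by exact_mod_cast hbig
    have hr' : (3 : ℤ) ≤ r := by exact_mod_cast hr3
    rcases Int.lt_or_gt_of_ne h0 with h7 | h7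
    · have : (n : ℤ) - r ≤ -(r + n * m) := by nlinarith
      nlinarith [mul_le_mul this this (by nlinarith) (by nlinarith)]
    · have : (n : ℤ) - r ≤ r + n * m := by nlinarith
      nlinarith [mul_le_mul this this (by nlinarith) (by nlinarith)]
  -- the exceptional character is trivial on an involution
  have hφr : φz = r := by rw [hφz, hγ0, hm0]; ring
  obtain ⟨i, hi, hix⟩ := h.exists_inv x
  set θs : F := ⟨θ₁, hθ₁⟩ with hθs
  have h1 := hvalone θ₁ hθ₁
  rw [he1, hφr, hσμ θs] at h1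
  set k₂ : K := ⟨⟨i, hix⟩, h.invol_mem hi hix⟩ with hk₂
  have h2 := hvals θ₁ hθ₁ k₂
    (fun e' => ne_one_of_orderOf_two hi (congrArg (fun k : K => ((k : N) : G)) e'))
  have hk₂Z : (k₂ : N) ∈ Z :=
    show i ∈ h.invCore x from ⟨h.invol_mem hi hix, mul_self_of_orderOf_two hi⟩
  rw [hγ0, hθ₁Z k₂ hk₂Z, hθ₁d, hσμ θs] at h2
  simp only [Pi.smul_apply, smul_eq_mul, Nat.cast_one, one_mul, Int.cast_zero, mul_zero, add_zero,
    Int.cast_natCast] at h1 h2
  have hσ0 : (σ θs : ℂ) ≠ 0 := by rcases hσ1 θs with e' | e' <;> simp [e']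
  exact h.false_of_invol_kernel (hμ θs) (hμne θs) hi (mul_left_cancel₀ hσ0 (h2.trans h1.symm))

end CfsgLib.TICentralizers
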