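import Cfsg.Agent.TICentralizers.TwoStructure
import Cfsg.Agent.TICentralizers.NotTwoGroup

/-!
# Insoluble groups with T.I. centralisers: the kernel is abelian

A non-abelian `2`-group kernel yields `q + 1` exceptional characters; they are real, so their
indicators are `±1`, and then one of them is trivial on an involution.
-/

set_option autoImplicit false
set_option linter.unusedSectionVars false
set_option linter.style.haveILetI false

namespace CfsgLib.TICentralizers

open Subgroup CfsgLib.SEmbed CfsgLib.Small CfsgLib.InvCentAbelian CfsgLib.Characters Cfsg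
open scoped ComplexConjugate

universe u v

/-- Two equal differences of irreducible characters have the same ends. -/
theorem irr_sub_eq {B : Type u} [Group B] [Fintype B] {a b c d : B → ℂ} (ha : IsIrrCharacter B a)
    (hb : IsIrrCharacter B b) (hc : IsIrrCharacter B c) (hd : IsIrrCharacter B d) (hab : a ≠ b)
    (h : a - b = c - d) : a = c ∧ b = d := by
  classical
  have h1 := congrArg (fun f => classInner f a) h
  simp only [classInner_sub_left, classInner_isIrr_self ha,
    classInner_isIrr_ne hb ha (Ne.symm hab), sub_zero] at h1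
  have hac : a = c := by
    by_contra hne
    rw [classInner_isIrr_ne hc ha (Ne.symm hne), zero_sub] at h1
    by_cases hda : d = a
    · rw [hda, classInner_isIrr_self ha] at h1; norm_num at h1
    · rw [classInner_isIrr_ne hd ha hda] at h1; norm_num at h1
  exact ⟨hac, by rw [hac] at h; exact sub_right_injective h⟩

/-- Induction commutes with complex conjugation. -/
theorem conjFun_indFun_subgroup {B : Type u} [Group B] [Fintype B] (M : Subgroup B) (f : M → ℂ) :
    conjFun (indFun M f) = indFun M (conjFun f) := by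
  funext g
  simp only [conjFun, indFun, map_mul, map_inv₀, Complex.conj_natCast, map_sum]
  congr 1
  refine Finset.sum_congr rfl fun x _ => ?_
  by_cases h : x⁻¹ * g * x ∈ M
  · rw [OddOrderChar.extendByZero_of_mem M f h, OddOrderChar.extendByZero_of_mem M _ h]; rfl
  · rw [OddOrderChar.extendByZero_of_notMem M f h, OddOrderChar.extendByZero_of_notMem M _ h,
      map_zero]

variable {G : Type u} [Group G] {Ω : Type v} [MulAction G Ω] [Fintype G] (h : Conf G Ω)

noncomputable local instance fintypeSubTwoCharacters (M : Subgroup G) : Fintype M := Fintype.ofFinite M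

include h

set_option maxHeartbeats 2000000 in
/-- The kernel is abelian. -/
theorem Conf.cA_abelian (x : Ω) : ∀ a ∈ cA G x, ∀ b ∈ cA G x, a * b = b * a := by
  classical
  by_contra hnab
  have hp := h.isPGroup_of_nonabelian hnab
  obtain ⟨hn3, hstr⟩ := h.twoGroup_structure hp hnab
  haveI := h.nontriv
  set N := MulAction.stabilizer G x with hNdef
  set A := cA G x with hAdef
  set K := A.subgroupOf N with hKdef
  haveI hKn : K.Normal := h.sub_normal x
  haveI : Fintype K := Fintype.ofFinite K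
  set n := Nat.card A with hn
  set r := Nat.card (invMap (G := G) x x) with hr
  have hr3 : 3 ≤ r := h.three_le x
  set q : ℕ := r + 1 with hq
  have hqr : (q : ℂ) = r + 1 := by rw [hq]; push_cast; ring
  have hcardK : Nat.card K = q ^ 3 := by rw [h.card_sub x, ← hn3]
  have hindex : K.index = r := h.index_sub x
  have hcardN : Nat.card N = n * r := h.card_stab x
  have hnorm : Subgroup.normalizer (A : Set G) = N := h.normalizer_cA x
  have hfix := h.hfix x
  have hTI := h.isTI x
  set Z := (h.invCore x).subgroupOf N with hZ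
  haveI hZn : Z.Normal := h.invCore_normal x
  have hZK : Z ≤ K := fun a ha => h.invCore_le x ha
  have hrel : Z.relIndex K = q ^ 2 := by
    have h1 := Subgroup.relIndex_mul_relIndex ⊥ Z K bot_le hZK
    rw [Subgroup.relIndex_bot_left, Subgroup.relIndex_bot_left, hcardK,
      Nat.card_congr (Subgroup.subgroupOfEquivOfLe
        ((h.invCore_le x).trans (h.cA_le_stabilizer x))).toEquiv, h.card_invCore x, ← hr, ← hq,
      pow_succ' q 2] at h1
    exact Nat.eq_of_mul_eq_mul_left (by omega) h1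
  set Zk := Z.subgroupOf K with hZk
  haveI hZkn : Zk.Normal := Subgroup.Normal.subgroupOf hZn K
  haveI : Fintype (K ⧸ Zk) := Fintype.ofFinite _
  have hcardQ : Nat.card (K ⧸ Zk) = q ^ 2 := hrel
  have hQsq : ∀ a : K ⧸ Zk, a * a = 1 := by
    intro a
    obtain ⟨k, rfl⟩ := QuotientGroup.mk_surjective a
    rw [← QuotientGroup.mk_mul, QuotientGroup.eq_one_iff]
    exact h.sq_mem_invCore hp hnab k.2
  have hQinv : ∀ a : K ⧸ Zk, a⁻¹ = a := fun a => inv_eq_of_mul_eq_one_right (hQsq a)
  have hQcomm : ∀ a b : K ⧸ Zk, a * b = b * a := fun a b => by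
    rw [← hQinv (a * b), mul_inv_rev, hQinv, hQinv]
  -- the members
  have hFirr := Coherence.frob_irr (A := Z) hfix
  set F := (Coherence.finite_irr_set hFirr).toFinset with hF
  have hFcoe : (↑F : Set (N → ℂ)) = inducedIrrAbove K Z := Set.Finite.coe_toFinset _
  have hmemF : ∀ θ, θ ∈ F ↔ θ ∈ inducedIrrAbove K Z := fun θ => Set.Finite.mem_toFinset _
  have hirr : ∀ θ : F, IsIrrCharacter N (θ : N → ℂ) := fun θ => hFirr _ ((hmemF _).1 θ.2)
  have hlam : ∀ θ : F, ∃ lam : K → ℂ, lam 1 = 1 ∧ conjFun lam = lam ∧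
      (∀ k : K, k ∈ Zk → lam k = 1) ∧ (θ : N → ℂ) = indFun K lam := by
    intro θ
    obtain ⟨lam, hlam, -, hlamZ, e⟩ := (hmemF _).1 θ.2
    obtain ⟨ψ, hψ, hψe⟩ := exists_irr_quotient Zk hlam fun k hk => hlamZ k hk
    have h1 : lam 1 = 1 := by
      rw [hψe]
      exact OddOrderChar.irr_degree_one_of_comm hQcomm ⟨ψ, hψ⟩
    refine ⟨lam, h1, funext fun k => ?_, fun k hk => by rw [hlamZ k hk, h1], e⟩
    rw [conjFun, hψe, ← character_inv (isCharacter_of_isIrr hψ), hQinv]
  have hdeg : ∀ θ : F, (θ : N → ℂ) 1 = (r : ℂ) := fun θ => by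
    obtain ⟨lam, h1, -, -, e⟩ := hlam θ
    rw [e, Coherence.ind_one, hindex, h1, mul_one]
  have hreal : ∀ θ : F, conjFun (θ : N → ℂ) = θ := fun θ => by
    obtain ⟨lam, -, h2, -, e⟩ := hlam θ
    rw [e, Coherence.conjFun_ind, h2]
  have hoff : ∀ (θ : F) (a : N), a ∉ K → (θ : N → ℂ) a = 0 := by
    intro θ a ha
    obtain ⟨lam, -, -, -, e⟩ := hlam θ
    rw [e, OddOrderChar.indFun_normal_eq_zero K _ ha]
  have hθZ : ∀ (θ : F) (k : K), k ∈ Zk → (θ : N → ℂ) k = (r : ℂ) := by
    intro θ k hk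
    obtain ⟨lam, h1, -, h3, e⟩ := hlam θ
    rw [← hdeg θ, e, show (1 : N) = ((1 : K) : N) from rfl, OddOrderChar.indFun_normal_apply,
      OddOrderChar.indFun_normal_apply]
    congr 1
    refine Finset.sum_congr rfl fun g _ => ?_
    simp only [OddOrderChar.conjBy_apply]
    rw [h3 _ (show _ ∈ Zk from hZn.conj_mem _ hk g)]
    rw [show (⟨g * ((1 : K) : N) * g⁻¹, hKn.conj_mem _ (1 : K).2 g⟩ : K) = 1 from
      Subtype.ext (by simp), h1]
  have hne1 : ∀ θ : F, (θ : N → ℂ) ≠ fun _ => 1 := by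
    intro θ e
    have h1 := hdeg θ
    rw [e] at h1
    have h1' : (1 : ℂ) = r := h1
    have h1'' : (1 : ℕ) = r := by exact_mod_cast h1'
    omega
  have hsumK : ∀ θ : F, ∑ k : K, (θ : N → ℂ) k = 0 := by
    intro θ
    rw [h.sum_sub_of_off _ (hoff θ)]
    have h0 := classInner_isIrr_ne (hirr θ) isIrr_one (hne1 θ)
    rw [classInner, mul_eq_zero] at h0
    simpa using h0.resolve_left (inv_ne_zero natCard_ne_zero)
  have hnormK : ∀ θ : F, ∑ k : K, Complex.normSq ((θ : N → ℂ) k) = (q : ℝ) ^ 3 * r := by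
    intro θ
    rw [h.sum_sub_of_off (fun a => Complex.normSq ((θ : N → ℂ) a)) fun a ha => by
      rw [hoff θ a ha, map_zero]]
    have h1 := classInner_isIrr_self (hirr θ)
    rw [classInner] at h1
    simp only [Complex.mul_conj] at h1
    rw [inv_mul_eq_one₀ natCard_ne_zero, eq_comm, hcardN, hn3] at h1
    exact_mod_cast h1
  have hFcard : Fintype.card F = q + 1 := by
    have h1 := Coherence.sum_deg_sq_div K Z F hFcoe
    rw [Finset.sum_congr rfl fun θ hθ => by
      rw [show θ 1 = (r : ℂ) from hdeg ⟨θ, hθ⟩,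
        show classInner θ θ = 1 from classInner_isIrr_self (hirr ⟨θ, hθ⟩), div_one],
      Finset.sum_const, nsmul_eq_mul, hrel, hindex] at h1
    push_cast at h1
    rw [hqr] at h1
    have hr0 : (r : ℂ) ≠ 0 := Nat.cast_ne_zero.2 (by omega)
    have h2 : (F.card : ℂ) = ((r + 2 : ℕ) : ℂ) := by
      push_cast
      refine mul_right_cancel₀ (mul_ne_zero hr0 hr0) ?_
      linear_combination h1
    rw [Fintype.card_coe, hq]
    exact_mod_cast h2
  obtain ⟨θ₀⟩ : Nonempty F := Fintype.card_pos_iff.1 (by omega)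
  obtain ⟨θ', hθ'⟩ : ∃ θ' : F, θ' ≠ θ₀ :=
    Fintype.exists_ne_of_one_lt_card (by omega) θ₀
  -- differences and the isometry
  have hgenF : ∀ i : F, IsGeneralizedCharacter N (i : N → ℂ) := fun i => isGen_of_isIrr (hirr i)
  have hvan : ∀ (i j : F) (a : N), (a : G) ∉ A → ((i : N → ℂ) - (j : N → ℂ)) a = 0 := by
    intro i j a ha
    rw [Pi.sub_apply, hoff i a ha, hoff j a ha, sub_zero]
  have hone : ∀ i j : F, ((i : N → ℂ) - (j : N → ℂ)) 1 = 0 := fun i j => by
    rw [Pi.sub_apply, hdeg, hdeg, sub_self]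
  have hind : ∀ (i j : F) (a : N), (a : G) ∈ A →
      indFun N ((i : N → ℂ) - (j : N → ℂ)) a = ((i : N → ℂ) - (j : N → ℂ)) a := fun i j a ha =>
    Coherence.ti_ind_apply hTI hnorm (isClassFunction_of_isGen (isGen_sub (hgenF i) (hgenF j)))
      (hvan i j) (hone i j) a ha
  have horth : ∀ i j : F, classInner (i : N → ℂ) (j : N → ℂ) = if i = j then 1 else 0 := by
    intro i j
    split_ifs with hij
    · rw [hij]; exact classInner_isIrr_self (hirr j)
    · exact classInner_isIrr_ne (hirr i) (hirr j) fun e => hij (Subtype.ext e)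
  have hiso : ∀ i j : F, classInner (indFun N ((i : N → ℂ) - (θ₀ : N → ℂ)))
      (indFun N ((j : N → ℂ) - (θ₀ : N → ℂ))) =
        classInner ((i : N → ℂ) - (θ₀ : N → ℂ)) ((j : N → ℂ) - (θ₀ : N → ℂ)) := by
    intro i j
    rw [classInner_indFun N _ (isClassFunction_indFun N _)]
    simp only [classInner]
    congr 1
    refine Finset.sum_congr rfl fun a _ => ?_
    by_cases ha : (a : G) ∈ A
    · rw [hind j θ₀ a ha]
    · rw [hvan i θ₀ a ha, zero_mul, zero_mul]
  obtain ⟨ε, hε, μ, hμ, hμinj, hτ⟩ := exists_exceptional θ₀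
    (fun i : F => indFun N ((i : N → ℂ) - (θ₀ : N → ℂ)))
    (by simp [sub_self, indFun_zero])
    (fun i => isGen_indFun N (isGen_sub (hgenF i) (hgenF θ₀)))
    (fun i => by rw [indFun_one, hone, mul_zero])
    (fun i j hi hj => by
      rw [hiso, classInner_sub_left, classInner_sub_right, classInner_sub_right, horth, horth,
        horth, horth, if_neg hi, if_neg (Ne.symm hj), if_pos rfl]
      split_ifs <;> norm_num)
  obtain ⟨εz, hεz, rfl⟩ : ∃ z : ℤ, (z = 1 ∨ z = -1) ∧ ε = (z : ℂ) := by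
    rcases hε with e | e
    · exact ⟨1, Or.inl rfl, by rw [e, Int.cast_one]⟩
    · exact ⟨-1, Or.inr rfl, by rw [e, Int.cast_neg, Int.cast_one]⟩
  have hεsq : (εz : ℂ) * εz = 1 := by rcases hεz with rfl | rfl <;> norm_num
  have hεne : (εz : ℂ) ≠ 0 := by rcases hεz with rfl | rfl <;> norm_num
  have horthμ : ∀ i j : F, classInner (μ i) (μ j) = if i = j then 1 else 0 := by
    intro i j
    split_ifs with hij
    · rw [hij]; exact classInner_isIrr_self (hμ j)
    · exact classInner_isIrr_ne (hμ i) (hμ j) fun e => hij (hμinj e)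
  have hμ0 : IsClassFunction G (μ θ₀) := isClassFunction_of_isIrr (hμ θ₀)
  -- reality
  have hreal0 : conjFun (μ θ₀) = μ θ₀ := by
    have h1 := congrArg conjFun (hτ θ')
    rw [conjFun_indFun_subgroup] at h1
    have h2 : conjFun ((θ' : N → ℂ) - (θ₀ : N → ℂ)) = (θ' : N → ℂ) - (θ₀ : N → ℂ) := by
      funext a
      have e1 := congrFun (hreal θ') a
      have e2 := congrFun (hreal θ₀) a
      simp only [conjFun] at e1 e2
      simp only [conjFun, Pi.sub_apply, map_sub, e1, e2]
    rw [h2, hτ θ'] at h1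
    have h3 : μ θ' - μ θ₀ = conjFun (μ θ') - conjFun (μ θ₀) := by
      funext g
      have h4 := congrFun h1 g
      simp only [conjFun, Pi.smul_apply, Pi.sub_apply, smul_eq_mul, map_mul, map_sub,
        map_intCast] at h4
      exact mul_left_cancel₀ hεne h4
    exact (irr_sub_eq (hμ θ') (hμ θ₀) (Coherence.isIrr_conjFun (hμ θ'))
      (Coherence.isIrr_conjFun (hμ θ₀)) (fun e => hθ' (hμinj e)) h3).2.symm
  obtain ⟨νz, hνz, hν⟩ : ∃ νz : ℤ, (νz = 1 ∨ νz = -1) ∧ FSIndicator.nu (μ θ₀) = (νz : ℂ) := by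
    rcases FSIndicator.nu_irr (⟨μ θ₀, hμ θ₀⟩ : IrrCharacter G) with ⟨-, h1 | h1⟩ | ⟨⟨g, hg⟩, -⟩
    · exact ⟨1, Or.inl rfl, by rw [Int.cast_one]; exact h1⟩
    · exact ⟨-1, Or.inr rfl, by rw [Int.cast_neg, Int.cast_one]; exact h1⟩
    · exact absurd (congrFun hreal0 g) hg
  -- the values on the kernel
  set γ : K → ℂ := fun k => μ θ₀ (k : N) - εz * (θ₀ : N → ℂ) k with hγ
  have hres : ∀ (i : F) (k : K), μ i (k : N) = εz * (i : N → ℂ) k + γ k := by
    intro i k
    have h1 : indFun N ((i : N → ℂ) - (θ₀ : N → ℂ)) ((k : N) : G) =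
        ((i : N → ℂ) - (θ₀ : N → ℂ)) k := hind i θ₀ k k.2
    rw [hτ i] at h1
    simp only [Pi.smul_apply, Pi.sub_apply, smul_eq_mul] at h1
    have h3 : μ i (k : N) - μ θ₀ (k : N) = εz * ((i : N → ℂ) k - (θ₀ : N → ℂ) k) := by
      rw [← h1, ← mul_assoc, hεsq, one_mul]
    simp only [hγ]
    linear_combination h3
  obtain ⟨i₀, hi₀, hi₀x⟩ := h.exists_inv x
  set k₀ : K := ⟨⟨i₀, hi₀x⟩, h.invol_mem hi₀ hi₀x⟩ with hk₀
  have hk₀Z : k₀ ∈ Zk :=
    show i₀ ∈ h.invCore x from ⟨h.invol_mem hi₀ hi₀x, mul_self_of_orderOf_two hi₀⟩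
  -- none of the exceptional characters is principal
  have hne : ∀ i : F, μ i ≠ fun _ => 1 := by
    intro i e
    obtain ⟨j, hj⟩ : ∃ j : F, j ≠ i := Fintype.exists_ne_of_one_lt_card (by omega) i
    refine h.false_of_invol_kernel (hμ j) (fun e' => hj (hμinj (e'.trans e.symm))) hi₀ ?_
    have h1 := hres j k₀
    have h2 := hres i k₀
    have h3 := hres j 1
    have h4 := hres i 1
    rw [hθZ j k₀ hk₀Z] at h1
    rw [hθZ i k₀ hk₀Z, e] at h2
    simp only [OneMemClass.coe_one, hdeg] at h3 h4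
    rw [e] at h4
    simp only [hk₀] at h1 h2 h3 h4 ⊢
    linear_combination h1 - h2 - h3 + h4
  -- the coefficients
  set P : N → ℂ := fun a => μ θ₀ a with hP
  have hPc : IsCharacter N P := isCharacter_restrict N (isCharacter_of_isIrr (hμ θ₀))
  have hQ : ∀ i : F, classInner P (i : N → ℂ) =
      (classInner P (θ₀ : N → ℂ) - εz) + if i = θ₀ then (εz : ℂ) else 0 := by
    intro i
    have h1 : classInner P ((i : N → ℂ) - (θ₀ : N → ℂ)) =
        εz * ((if θ₀ = i then (1 : ℂ) else 0) - 1) := by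
      rw [hP, ← classInner_indFun_right N _ hμ0, hτ i, classInner_smul_right, classInner_sub_right,
        horthμ, horthμ, if_pos rfl, map_intCast]
    rw [classInner_sub_right, sub_eq_iff_eq_add] at h1
    rw [h1]
    by_cases hi : i = θ₀
    · rw [if_pos hi.symm, if_pos hi]; ring
    · rw [if_neg (Ne.symm hi), if_neg hi]; ring
  obtain ⟨w, hw⟩ := classInner_character_irr hPc (hirr θ')
  have hwq : classInner P (θ₀ : N → ℂ) - εz = (w : ℂ) := by
    have h1 := hQ θ'
    rw [if_neg hθ', add_zero, hw] at h1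
    exact h1.symm
  have hfc : IsCharacter K (fun k : K => P k) := isCharacter_restrict K hPc
  obtain ⟨cN, hcN⟩ := classInner_characters hfc (isCharacter_of_isIrr (isIrr_one (G := K)))
  have hγsum : ∑ k : K, γ k = (q : ℂ) ^ 3 * cN := by
    rw [hγ, Finset.sum_sub_distrib, ← Finset.mul_sum, hsumK, mul_zero, sub_zero]
    rw [classInner, inv_mul_eq_iff_eq_mul₀ natCard_ne_zero, hcardK] at hcN
    simp only [map_one, mul_one, Nat.cast_pow] at hcN
    exact hcN
  have hγpsi : ∀ ψ : IrrCharacter (K ⧸ Zk), (ψ : K ⧸ Zk → ℂ) ≠ (fun _ => 1) →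
      classInner γ (fun k => (ψ : K ⧸ Zk → ℂ) (QuotientGroup.mk' Zk k)) = (w : ℂ) := by
    intro ψ hψ
    set lam : IrrCharacter K := ⟨fun k => (ψ : K ⧸ Zk → ℂ) (QuotientGroup.mk' Zk k),
      isIrr_comp _ (QuotientGroup.mk'_surjective Zk) ψ.2⟩ with hlamdef
    have hlam1 : (lam : K → ℂ) ≠ fun _ => 1 := fun e => hψ (funext fun a => by
      obtain ⟨k, rfl⟩ := QuotientGroup.mk'_surjective Zk a
      exact congrFun e k)
    have hmem : indFun K (lam : K → ℂ) ∈ F := (hmemF _).2
      ((Coherence.ind_mem_iff K lam.2).2 ⟨hlam1, fun a ha => by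
        show (ψ : K ⧸ Zk → ℂ) (QuotientGroup.mk' Zk a) = (ψ : K ⧸ Zk → ℂ) (QuotientGroup.mk' Zk 1)
        rw [QuotientGroup.mk'_apply, (QuotientGroup.eq_one_iff a).2 ha, map_one]⟩)
    have hrec : ∀ φ : N → ℂ, IsClassFunction N φ →
        classInner (fun k : K => φ k) (lam : K → ℂ) = classInner φ (indFun K (lam : K → ℂ)) :=
      fun φ hφ => (classInner_indFun_right K (lam : K → ℂ) hφ).symm
    have h1 := hQ ⟨_, hmem⟩
    have h2 := horth θ₀ ⟨_, hmem⟩
    simp only at h1 h2
    rw [hwq] at h1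
    show classInner γ (lam : K → ℂ) = _
    rw [show γ = (fun k : K => P k) - (εz : ℂ) • (fun k : K => (θ₀ : N → ℂ) k) from rfl,
      classInner_sub_left, classInner_smul_left, hrec P (isClassFunction_of_isCharacter hPc),
      hrec _ (isClassFunction_of_isIrr (hirr θ₀)), h1, h2]
    by_cases hi : (⟨_, hmem⟩ : F) = θ₀
    · rw [if_pos hi, if_pos hi.symm]; ring
    · rw [if_neg hi, if_neg (Ne.symm hi)]; ring
  set Φ : K ⧸ Zk → ℂ := fun a => (q : ℂ)⁻¹ *
    ∑ k ∈ Finset.univ.filter (fun k : K => QuotientGroup.mk' Zk k = a), γ k with hΦ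
  have hq0 : (q : ℂ) ≠ 0 := Nat.cast_ne_zero.2 (by omega)
  have hΦinner : ∀ f : K ⧸ Zk → ℂ,
      classInner Φ f = classInner γ (fun k => f (QuotientGroup.mk' Zk k)) := by
    intro f
    simp only [classInner, hcardQ, hcardK, hΦ]
    rw [← Finset.sum_fiberwise Finset.univ (QuotientGroup.mk' Zk)
      (fun k => γ k * conj (f (QuotientGroup.mk' Zk k))), Finset.mul_sum, Finset.mul_sum]
    refine Finset.sum_congr rfl fun a _ => ?_
    have hfa : ∑ k ∈ Finset.univ.filter (fun k : K => QuotientGroup.mk' Zk k = a),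
        γ k * conj (f (QuotientGroup.mk' Zk k)) =
        (∑ k ∈ Finset.univ.filter (fun k : K => QuotientGroup.mk' Zk k = a), γ k) * conj (f a) := by
      rw [Finset.sum_mul]
      exact Finset.sum_congr rfl fun k hk => by rw [(Finset.mem_filter.1 hk).2]
    rw [hfa]
    push_cast
    field_simp
  have hΦone : classInner Φ (fun _ => 1) = (cN : ℂ) := by
    rw [hΦinner, classInner]
    simp only [map_one, mul_one]
    rw [hγsum, hcardK]
    push_cast
    field_simp
  have hΦval := apply_of_deg_coeff (f := Φ) (fun a b => by rw [hQcomm b a, mul_inv_cancel_right])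
    hΦone (g := (w : ℂ)) fun ψ hψ => by
      rw [hΦinner, hγpsi ψ hψ, OddOrderChar.irr_degree_one_of_comm hQcomm ψ, mul_one]
  -- the classes outside the involutions
  set y : ℤ := (cN : ℤ) - w with hy
  have hγout : ∀ k : K, k ∉ Zk → γ k = (y : ℂ) := by
    intro k hk
    have hfib : ∀ k' : K, QuotientGroup.mk' Zk k' = QuotientGroup.mk' Zk k → γ k' = γ k := by
      intro k' hk'
      have hz : ((k' : N) : G) * ((k : N) : G)⁻¹ ∈ h.invCore x := by
        have h1 : k' * k⁻¹ ∈ Zk := by
          rw [← QuotientGroup.eq_one_iff]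
          show QuotientGroup.mk' Zk (k' * k⁻¹) = 1
          rw [map_mul, map_inv, hk', mul_inv_cancel]
        exact h1
      obtain ⟨g, hg, hge⟩ := (hstr ((k : N) : G) k.2 (fun hc => hk hc)).2 _ hz
      rw [inv_mul_cancel_right] at hge
      set gN : N := ⟨g, h.cA_le_stabilizer x hg⟩ with hgN
      have hk'N : (k' : N) = gN * (k : N) * gN⁻¹ := Subtype.ext hge.symm
      simp only [hγ]
      rw [hk'N, isClassFunction_of_isIrr (hirr θ₀) (k : N) gN]
      congr 1
      exact isClassFunction_of_isIrr (hμ θ₀) ((k : N) : G) g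
    have hcnt : (Finset.univ.filter fun k' : K =>
        QuotientGroup.mk' Zk k' = QuotientGroup.mk' Zk k).card = q := by
      rw [show (Finset.univ.filter fun k' : K =>
          QuotientGroup.mk' Zk k' = QuotientGroup.mk' Zk k) =
          (Finset.univ.filter fun z : K => z ∈ Zk).map (Equiv.mulRight k).toEmbedding from ?_,
        Finset.card_map, ← Fintype.card_subtype, ← Nat.card_eq_fintype_card]
      · rw [show Nat.card {z : K // z ∈ Zk} = Nat.card Zk from rfl]
        have h1 := Zk.card_mul_index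
        rw [show Zk.index = q ^ 2 from hcardQ, hcardK, pow_succ' q 2] at h1
        exact Nat.eq_of_mul_eq_mul_right (pow_pos (by omega) 2) h1
      · ext k'
        simp only [Finset.mem_filter, Finset.mem_univ, true_and, Finset.mem_map,
          Equiv.coe_toEmbedding, Equiv.coe_mulRight]
        constructor
        · intro hk'
          refine ⟨k' * k⁻¹, ?_, inv_mul_cancel_right k' k⟩
          rw [← QuotientGroup.eq_one_iff]
          show QuotientGroup.mk' Zk (k' * k⁻¹) = 1
          rw [map_mul, map_inv, hk', mul_inv_cancel]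
        · rintro ⟨z, hz, rfl⟩
          rw [map_mul, QuotientGroup.mk'_apply, (QuotientGroup.eq_one_iff z).2 hz, one_mul]
    have h1 := hΦval (QuotientGroup.mk' Zk k)
    rw [if_neg (show QuotientGroup.mk' Zk k ≠ 1 from fun e => hk ((QuotientGroup.eq_one_iff k).1 e)),
      add_zero] at h1
    simp only [hΦ] at h1
    rw [Finset.sum_congr rfl (fun k' hk' => hfib k' (Finset.mem_filter.1 hk').2), Finset.sum_const,
      hcnt, nsmul_eq_mul, inv_mul_cancel_left₀ hq0] at h1
    rw [h1, hy]; push_cast; ring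
  -- the sum over the involutions
  set Sz := (Finset.univ : Finset K).filter (fun k => k ∈ Zk) with hSz
  have hSzcard : Sz.card = q := by
    rw [hSz, ← Fintype.card_subtype, ← Nat.card_eq_fintype_card]
    have h1 := Zk.card_mul_index
    rw [show Zk.index = q ^ 2 from hcardQ, hcardK, pow_succ' q 2] at h1
    exact Nat.eq_of_mul_eq_mul_right (pow_pos (by omega) 2) h1
  have h1Sz : (1 : K) ∈ Sz := Finset.mem_filter.2 ⟨Finset.mem_univ _, one_mem _⟩
  have hzconst : ∀ k : K, k ∈ Zk → k ≠ 1 → μ θ₀ ((k : N) : G) = μ θ₀ i₀ := by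
    intro k hk hk1
    have ho : orderOf ((k : N) : G) = 2 := orderOf_eq_prime
      (by rw [sq]; exact (show ((k : N) : G) ∈ h.invCore x from hk).2)
      fun e => hk1 (Subtype.ext (Subtype.ext e))
    obtain ⟨c, hc⟩ := isConj_iff.1 (isConj_invol h.uf hi₀ ho)
    rw [← hc, isClassFunction_of_isIrr (hμ θ₀)]
  set av := μ θ₀ i₀ with hav
  obtain ⟨d, hd0, hd⟩ := exists_degree_pos (hμ θ₀)
  have hnZ : ∑ k ∈ Sz, γ k = ((d : ℂ) - εz * r) + r * (av - εz * r) := by
    rw [← Finset.add_sum_erase Sz γ h1Sz]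
    congr 1
    · simp only [hγ, OneMemClass.coe_one, hd, hdeg]
    · rw [Finset.sum_congr rfl (g := fun _ => av - εz * r) fun k hk => ?_, Finset.sum_const,
        Finset.card_erase_of_mem h1Sz, hSzcard, nsmul_eq_mul, show q - 1 = r by omega]
      obtain ⟨hk1, hk2⟩ := Finset.mem_erase.1 hk
      have hkZ := (Finset.mem_filter.1 hk2).2
      simp only [hγ]
      rw [hzconst k hkZ hk1, hθZ θ₀ k hkZ]
  have hE1 : ((d : ℂ) - εz * r) + r * (av - εz * r) = q * (y : ℂ) + (q : ℂ) ^ 3 * w := by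
    have h1 := hΦval 1
    rw [if_pos rfl, hcardQ] at h1
    simp only [hΦ] at h1
    rw [inv_mul_eq_iff_eq_mul₀ hq0, show (Finset.univ.filter fun k : K =>
      QuotientGroup.mk' Zk k = 1) = Sz from Finset.ext fun k => by
        simp only [hSz, Finset.mem_filter, Finset.mem_univ, true_and]
        exact QuotientGroup.eq_one_iff k, hnZ] at h1
    rw [h1, hy]; push_cast; ring
  -- the column outside the involutions
  have hcompl : ∀ f : K → ℝ, ∑ k ∈ Szᶜ, f k = ∑ k, f k - ∑ k ∈ Sz, f k := fun f => by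
    rw [← Finset.sum_add_sum_compl Sz f]; ring
  have hre0 : ∀ i : F, ∑ k : K, ((i : N → ℂ) k).re = 0 := fun i => by
    rw [← Complex.re_sum, hsumK, Complex.zero_re]
  have hrow : ∀ i : F, ∑ k ∈ Szᶜ, Complex.normSq (μ i ((k : N) : G)) =
      ((q : ℝ) ^ 3 * r - q * r ^ 2) - 2 * (εz : ℝ) * y * (q * r) +
        ((q : ℝ) ^ 3 - q) * (y : ℝ) ^ 2 := by
    intro i
    have hexp : ∀ k ∈ Szᶜ, Complex.normSq (μ i ((k : N) : G)) =
        Complex.normSq ((i : N → ℂ) k) + 2 * (εz : ℝ) * y * ((i : N → ℂ) k).re + (y : ℝ) ^ 2 := by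
      intro k hk
      have hk' : k ∉ Zk := fun hc => Finset.mem_compl.1 hk
        (Finset.mem_filter.2 ⟨Finset.mem_univ _, hc⟩)
      rw [show μ i ((k : N) : G) = εz * (i : N → ℂ) k + γ k from hres i k, hγout k hk']
      rcases hεz with rfl | rfl <;> simp [Complex.normSq_apply] <;> ring
    have hs1 : ∑ k ∈ Sz, Complex.normSq ((i : N → ℂ) k) = q * (r : ℝ) ^ 2 := by
      rw [Finset.sum_congr rfl (g := fun _ => (r : ℝ) ^ 2) fun k hk => by
        rw [hθZ i k (Finset.mem_filter.1 hk).2, Complex.normSq_natCast, sq],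
        Finset.sum_const, hSzcard, nsmul_eq_mul]
    have hs2 : ∑ k ∈ Sz, ((i : N → ℂ) k).re = q * (r : ℝ) := by
      rw [Finset.sum_congr rfl (g := fun _ => (r : ℝ)) fun k hk => by
        rw [hθZ i k (Finset.mem_filter.1 hk).2, Complex.natCast_re],
        Finset.sum_const, hSzcard, nsmul_eq_mul]
    rw [Finset.sum_congr rfl hexp, Finset.sum_add_distrib, Finset.sum_add_distrib,
      ← Finset.mul_sum, hcompl, hcompl, hnormK i, hre0 i, hs1, hs2,
      Finset.sum_const, Finset.card_compl, hSzcard,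
      ← Nat.card_eq_fintype_card, hcardK, nsmul_eq_mul,
      Nat.cast_sub (Nat.le_self_pow (by norm_num) q)]
    push_cast
    ring
  have hy0 : y = 0 := by
    have hcol : ∀ k ∈ Szᶜ, ∑ i : F, Complex.normSq (μ i ((k : N) : G)) ≤ (q : ℝ) ^ 2 - 1 := by
      intro k hk
      have hk' : ((k : N) : G) ∉ h.invCore x := fun hc => Finset.mem_compl.1 hk
        (Finset.mem_filter.2 ⟨Finset.mem_univ _, hc⟩)
      have h1 := sum_normSq_le' μ hμ hμinj hne ((k : N) : G)
      rw [(hstr ((k : N) : G) k.2 hk').1] at h1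
      push_cast at h1 ⊢
      linarith
    have h1 := Finset.sum_le_sum hcol
    rw [Finset.sum_comm, Finset.sum_congr rfl fun i _ => hrow i, Finset.sum_const, Finset.sum_const,
      Finset.card_univ, hFcard, Finset.card_compl, hSzcard, ← Nat.card_eq_fintype_card, hcardK,
      nsmul_eq_mul, nsmul_eq_mul, Nat.cast_sub (Nat.le_self_pow (by norm_num) q)] at h1
    push_cast at h1
    have h2 : ((q : ℤ) + 1) * (((q : ℤ) ^ 3 * r - q * r ^ 2) - 2 * εz * y * (q * r) +
        ((q : ℤ) ^ 3 - q) * y ^ 2) ≤ ((q : ℤ) ^ 3 - q) * ((q : ℤ) ^ 2 - 1) := by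
      exact_mod_cast h1
    have hqz : (q : ℤ) = r + 1 := by rw [hq]; push_cast; ring
    have hr' : (3 : ℤ) ≤ r := by exact_mod_cast hr3
    have h3 : ((r : ℤ) + 2) * y ^ 2 - 2 * εz * y + 1 - r ≤ 0 := by
      have h4 : (((q : ℤ) + 1) * q * r) * (((r : ℤ) + 2) * y ^ 2 - 2 * εz * y + 1 - r) ≤
          (((q : ℤ) + 1) * q * r) * 0 := by
        rw [hqz] at h2 ⊢
        linear_combination h2
      exact le_of_mul_le_mul_left h4 (by positivity)
    by_contra h0
    have hy2 : 1 ≤ y ^ 2 := by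
      rcases Int.lt_or_gt_of_ne h0 with h7 | h7 <;> nlinarith
    have hy3 : εz * y ≤ y ^ 2 := by
      rcases hεz with rfl | rfl <;> rcases Int.lt_or_gt_of_ne h0 with h7 | h7 <;> nlinarith
    have hy4 : (r : ℤ) * 1 ≤ r * y ^ 2 := mul_le_mul_of_nonneg_left hy2 (by positivity)
    linarith
  -- the indicator equation
  have hind' := h.nu_mul (hμ θ₀) (hne θ₀) x
  rw [← hn, ← hr, hn3, hν] at hind'
  set eKA : K ≃ A :=
    (Subgroup.subgroupOfEquivOfLe (h.cA_le_stabilizer x)).toEquiv with heKA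
  have hsumA : ∑ a : A, (μ θ₀ ((a : G) * a) - μ θ₀ a) =
      ((q : ℂ) * d + ((q : ℂ) ^ 3 - q) * av) - (q : ℂ) ^ 3 * cN := by
    rw [Finset.sum_sub_distrib, ← Equiv.sum_comp eKA, ← Equiv.sum_comp eKA (fun a : A => μ θ₀ a)]
    congr 1
    · rw [← Finset.sum_add_sum_compl Sz]
      congr 1
      · rw [Finset.sum_congr rfl (g := fun _ => (d : ℂ)) fun k hk => ?_, Finset.sum_const, hSzcard,
          nsmul_eq_mul]
        show μ θ₀ (((k : N) : G) * ((k : N) : G)) = _
        rw [(show ((k : N) : G) ∈ h.invCore x from (Finset.mem_filter.1 hk).2).2, hd]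
      · rw [Finset.sum_congr rfl (g := fun _ => av) fun k hk => ?_, Finset.sum_const,
          Finset.card_compl, hSzcard, ← Nat.card_eq_fintype_card, hcardK, nsmul_eq_mul,
          Nat.cast_sub (Nat.le_self_pow (by norm_num) q)]
        · push_cast; ring
        · have hk' : ((k : N) : G) ∉ h.invCore x := fun hc => Finset.mem_compl.1 hk
            (Finset.mem_filter.2 ⟨Finset.mem_univ _, hc⟩)
          show μ θ₀ (((k : N) : G) * ((k : N) : G)) = _
          have ho : orderOf (((k : N) : G) * ((k : N) : G)) = 2 := orderOf_eq_prime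
            (by rw [sq]; exact (h.sq_mem_invCore hp hnab k.2).2) fun e => hk' ⟨k.2, e⟩
          obtain ⟨c, hc⟩ := isConj_iff.1 (isConj_invol h.uf hi₀ ho)
          rw [← hc, isClassFunction_of_isIrr (hμ θ₀)]
    · rw [classInner, inv_mul_eq_iff_eq_mul₀ natCard_ne_zero, hcardK] at hcN
      simp only [map_one, mul_one, Nat.cast_pow] at hcN
      exact hcN
  rw [hsumA] at hind'
  have hcw : (cN : ℂ) = w := by
    have : (cN : ℤ) = w := by omega
    exact_mod_cast this
  rw [hy0, Int.cast_zero, mul_zero, zero_add] at hE1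
  have hr0 : (r : ℂ) ≠ 0 := Nat.cast_ne_zero.2 (by omega)
  set aZ : ℤ := q * νz - εz - q * w with haZ
  have hav' : av = (aZ : ℂ) := by
    rw [haZ]
    push_cast at hind' ⊢
    rw [hcw] at hind'
    refine mul_left_cancel₀ (mul_ne_zero (mul_ne_zero hq0 hq0) hr0) ?_
    rw [hqr] at hind' hE1 ⊢
    linear_combination -hind' - ((r : ℂ) + 1) * hE1
  have hdZ : (d : ℤ) = q * εz * r + q ^ 3 * w - r * aZ := by
    rw [hav', hqr] at hE1
    have : ((d : ℤ) : ℂ) = ((q * εz * r + q ^ 3 * w - r * aZ : ℤ) : ℂ) := by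
      push_cast
      rw [hqr]
      linear_combination hE1
    exact_mod_cast this
  have hdall : ∀ i : F, μ i 1 = (d : ℂ) := fun i => by
    have h1 := hres i 1
    simp only [hγ, OneMemClass.coe_one, hd, hdeg] at h1
    linear_combination h1
  have hmult : ∀ i : F, classInner (indFun A (fun _ => 1)) (μ i) = (w : ℂ) := by
    intro i
    rw [classInner_indFun A _ (isClassFunction_of_isIrr (hμ i)), classInner]
    simp only [one_mul]
    rw [← Equiv.sum_comp eKA]
    have h1 : ∀ k : K, μ i (((eKA k : A)) : G) = εz * (i : N → ℂ) k + γ k := fun k => hres i k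
    simp only [h1, map_add, map_mul, map_intCast]
    rw [Finset.sum_add_distrib, ← Finset.mul_sum, ← map_sum, hsumK, ← map_sum, hγsum, map_zero,
      mul_zero, zero_add, ← hn, hn3, hcw]
    simp only [map_mul, map_pow, Complex.conj_natCast]
    push_cast
    field_simp
  have hw0 : w = 0 := by
    have hG : Nat.card G = (q ^ 3 + 1) * q ^ 3 * r := by rw [h.card_group x, ← hn, hn3]
    have hidx : A.index = (q ^ 3 + 1) * r := by
      have h1 := A.index_mul_card
      rw [← hn, hn3, hG, mul_right_comm (q ^ 3 + 1)] at h1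
      exact Nat.eq_of_mul_eq_mul_right (pow_pos (by omega) 3) h1
    obtain ⟨mc, hmc⟩ := exists_nat_coeff
      (isCharacter_indFun A (isCharacter_of_isIrr (isIrr_one (G := A))))
    choose dd hdd0 hdd using fun χ : IrrCharacter G => exists_degree_pos χ.2
    have hsum : ∑ χ : IrrCharacter G, mc χ * dd χ = (q ^ 3 + 1) * r := by
      have h1 := congrFun hmc 1
      simp only [Finset.sum_apply, Pi.smul_apply, smul_eq_mul, hdd] at h1
      rw [indFun_one, hidx, mul_one] at h1
      exact_mod_cast h1.symm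
    have hmcμ : ∀ i : F, mc ⟨μ i, hμ i⟩ = w := by
      intro i
      have h1 := hmult i
      rw [hmc] at h1
      have h2 := classInner_irr_coeff (fun χ => (mc χ : ℂ)) (⟨μ i, hμ i⟩ : IrrCharacter G)
      exact_mod_cast h2.symm.trans h1
    have hddμ : ∀ i : F, dd ⟨μ i, hμ i⟩ = d := by
      intro i
      have h1 := hdd ⟨μ i, hμ i⟩
      have h2 : μ i 1 = (dd ⟨μ i, hμ i⟩ : ℂ) := h1
      rw [hdall i] at h2
      exact_mod_cast h2.symm
    have hle := Finset.sum_le_sum_of_subset (f := fun χ => mc χ * dd χ)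
      (Finset.subset_univ ((Finset.univ : Finset F).image
        (fun i => (⟨μ i, hμ i⟩ : IrrCharacter G))))
    rw [Finset.sum_image fun a _ b _ e => hμinj (congrArg Subtype.val e), hsum] at hle
    simp only [hmcμ, hddμ, Finset.sum_const, Finset.card_univ, hFcard, smul_eq_mul] at hle
    by_contra hw1
    have hw2 : (1 : ℤ) ≤ w := by omega
    have hle' : ((q : ℤ) + 1) * ((w : ℤ) * d) ≤ ((q : ℤ) ^ 3 + 1) * r := by exact_mod_cast hle
    have hqz : (q : ℤ) = r + 1 := by rw [hq]; push_cast; ring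
    have hr' : (3 : ℤ) ≤ r := by exact_mod_cast hr3
    have hdlow : (q : ℤ) ^ 3 * w - q ^ 2 + 1 ≤ d := by
      have h5 : (q : ℤ) * r * 1 ≤ q * r * w := mul_le_mul_of_nonneg_left hw2 (by positivity)
      rw [hqz] at h5
      rw [hdZ, haZ]
      rcases hεz with rfl | rfl <;> rcases hνz with rfl | rfl <;> rw [hqz] <;> nlinarith [h5]
    have hdlow' : (q : ℤ) ^ 3 - q ^ 2 + 1 ≤ w * d := by
      have h6 : (q : ℤ) ^ 3 * 1 ≤ q ^ 3 * w := mul_le_mul_of_nonneg_left hw2 (by positivity)
      have h7 : (1 : ℤ) * d ≤ w * d := mul_le_mul_of_nonneg_right hw2 (by positivity)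
      linarith
    have := mul_le_mul_of_nonneg_left hdlow' (show (0 : ℤ) ≤ (q : ℤ) + 1 by positivity)
    rw [hqz] at this hle'
    nlinarith
  have hνε : νz = εz := by
    by_contra hne'
    have hcol := sum_normSq_le' μ hμ hμinj hne i₀
    rw [h.cent x i₀ hi₀ hi₀x, ← hn, hn3] at hcol
    have hval : ∀ i : F, μ i i₀ = (aZ : ℂ) := by
      intro i
      have h1 : μ i i₀ = εz * (i : N → ℂ) k₀ + γ k₀ := hres i k₀
      rw [h1, hθZ i k₀ hk₀Z, ← hav', hav]
      simp only [hγ]
      rw [hθZ θ₀ k₀ hk₀Z]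
      simp only [hk₀]
      ring
    simp only [hval, Finset.sum_const, Finset.card_univ, hFcard, nsmul_eq_mul] at hcol
    rw [show Complex.normSq ((aZ : ℤ) : ℂ) = ((aZ : ℝ)) ^ 2 by
      simp [Complex.normSq_apply, sq]] at hcol
    push_cast at hcol
    have hcol' : 1 + ((q : ℤ) + 1) * aZ ^ 2 ≤ (q : ℤ) ^ 3 := by exact_mod_cast hcol
    have hqz : (3 : ℤ) ≤ q := by omega
    rw [haZ, hw0] at hcol'
    rcases hεz with rfl | rfl <;> rcases hνz with rfl | rfl <;>
      first
        | exact hne' rfl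
        | (push_cast at hcol'; nlinarith)
  have haE : aZ = r * εz := by rw [haZ, hνε, hw0, hq]; push_cast; ring
  have hdE : (d : ℤ) = r * εz := by rw [hdZ, haE, hw0, hq]; push_cast; ring
  refine h.false_of_invol_kernel (hμ θ₀) (hne θ₀) hi₀ ?_
  rw [hd, ← hav, hav', haE, ← hdE, Int.cast_natCast]

end CfsgLib.TICentralizers
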