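import Mathlib
import Cfsg.Agent.TICentralizers.Basic
import Cfsg.Agent.S4066
import Cfsg.Agent.SEmbed.Cosets
import Cfsg.Agent.InvCentAbelian.Basic
import Cfsg.Agent.InvCentAbelian.OrbitCount
import Cfsg.Agent.ZStar.Theorem

/-!
# Insoluble groups in which every centraliser is a T.I. subgroup: the doubly transitive action

The normaliser of an involution centraliser is strongly embedded.  In the action on its cosets the
centralisers `cA G x` of the involutions fixing the different points intersect trivially.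
-/

set_option autoImplicit false
set_option linter.unusedSectionVars false

namespace CfsgLib.TICentralizers

open Subgroup CfsgLib.SEmbed CfsgLib.Small CfsgLib.InvCentAbelian

variable {G : Type*} [Group G]

/-- The standing hypothesis in the insoluble case. -/
structure Conf (G : Type*) [Group G] (Ω : Type*) [MulAction G Ω] : Prop where
  ti : TICent G
  nsolv : ¬ Group.IsSolvable G
  uf : UniqueFix G Ω
  nontriv : Nontrivial Ω
  cent : ∀ (x : Ω) (i : G), orderOf i = 2 → i • x = x → centralizer ({i} : Set G) = cA G x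
  two_mem : ∀ (x : Ω) (g : G) (k : ℕ), g • x = x → orderOf g = 2 ^ k → g ∈ cA G x
  two_le : ∀ x : Ω, 2 ≤ Nat.card (invMap (G := G) x x)

variable [Finite G]

theorem TICent.eq_bot_of_normal_odd (h : TICent G) (hns : ¬ Group.IsSolvable G) {N : Subgroup G}
    (hN : N.Normal) (hodd : Odd (Nat.card N)) : N = ⊥ := by
  by_contra hne
  have hs : Group.IsSolvable N :=
    Cfsg.Agent.S0183.result hodd (OddOrder.CN.isCNGroup_subgroup h.isCNGroup N)
  have : Nontrivial N := (nontrivial_iff_ne_bot N).2 hne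
  refine hns (h.isSolvable_of_fitting_ne_bot fun hF => ?_)
  have hc : ((Cfsg.fittingSubgroup N).map N.subtype).Normal := by
    have := Solvable.fittingSubgroup_characteristic (G := N)
    infer_instance
  have hnil : Group.IsNilpotent ((Cfsg.fittingSubgroup N).map N.subtype) := by
    have := Solvable.fittingSubgroup_isNilpotent (G := N)
    exact Group.nilpotent_of_mulEquiv
      ((Cfsg.fittingSubgroup N).equivMapOfInjective N.subtype N.subtype_injective)
  have hle := Solvable.le_fittingSubgroup hnil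
  rw [hF, le_bot_iff, map_eq_bot_iff_of_injective _ N.subtype_injective] at hle
  exact Solvable.fittingSubgroup_ne_bot hle

theorem TICent.center_eq_bot (h : TICent G) (hns : ¬ Group.IsSolvable G) : center G = ⊥ :=
  by_contra fun hZ => hns (by
    have := h.isNilpotent_of_center_ne_bot hZ
    infer_instance)

theorem TICent.even_card (h : TICent G) (hns : ¬ Group.IsSolvable G) : Even (Nat.card G) :=
  Nat.not_odd_iff_even.1 fun hodd => hns (Cfsg.Agent.S0183.result hodd h.isCNGroup)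

/-- An insoluble group with T.I. centralisers satisfies the standing hypothesis. -/
theorem TICent.exists_conf (h : TICent G) (hns : ¬ Group.IsSolvable G) :
    ∃ H : Subgroup G, Conf G (G ⧸ H) := by
  classical
  haveI : Fact (Nat.Prime 2) := ⟨Nat.prime_two⟩
  obtain ⟨S⟩ : Nonempty (Sylow 2 G) := inferInstance
  haveI : Nontrivial (S : Subgroup G) :=
    (nontrivial_iff_ne_bot _).2 (S.ne_bot_of_dvd_card (h.even_card hns).two_dvd)
  haveI := S.isPGroup'.center_nontrivial
  have hpc : IsPGroup 2 (center (S : Subgroup G)) := S.isPGroup'.to_subgroup _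
  obtain ⟨k, hk0, hk⟩ := hpc.nontrivial_iff_card.1 inferInstance
  obtain ⟨zc, hzc⟩ := exists_prime_orderOf_dvd_card' (G := center (S : Subgroup G)) 2
    (hk ▸ dvd_pow_self 2 hk0.ne')
  set z : G := ((zc : (S : Subgroup G)) : G) with hzdef
  have hz : orderOf z = 2 := by rw [hzdef, Subgroup.orderOf_coe, Subgroup.orderOf_coe, hzc]
  have hzS : z ∈ S := (zc : (S : Subgroup G)).2
  have hz1 : z ≠ 1 := ne_one_of_orderOf_two hz
  set H := centralizer ({z} : Set G) with hHdef
  have hSH : (S : Subgroup G) ≤ H := fun s hs =>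
    mem_cent.2 (congrArg Subtype.val (mem_center_iff.1 zc.2 ⟨s, hs⟩))
  have hnil : Group.IsNilpotent H := h.isCNGroup z hz1
  set N := normalizer (H : Set G) with hNdef
  have hHN : H ≤ N := le_normalizer
  have hzN : z ∈ N := hHN (self_mem_cent z)
  have hNtop : N ≠ ⊤ := by
    intro htop
    haveI : H.Normal := normalizer_eq_top_iff.1 htop
    have hle := Solvable.le_fittingSubgroup hnil
    exact hns (h.isSolvable_of_fitting_ne_bot fun hF =>
      hz1 (mem_bot.1 (hF ▸ hle (self_mem_cent z))))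
  have hsub : ∀ P Q : Sylow 2 G, (P : Subgroup G) ≤ H → (Q : Subgroup G) ≤ H → P = Q := by
    intro P Q hP hQ
    haveI : Subsingleton (Sylow 2 H) :=
      (Sylow.unique_of_normal (P.subtype hP)
        (((Group.isNilpotent_of_finite_tfae (G := H)).out 0 3 : Group.IsNilpotent H ↔
          ∀ (p : ℕ) (_ : Fact p.Prime) (Q : Sylow p H), (Q : Subgroup H).Normal).1 hnil 2
          inferInstance _)).instSubsingleton
    exact Sylow.subtype_injective (Subsingleton.elim (P.subtype hP) (Q.subtype hQ))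
  have hSN : N ≤ normalizer ((S : Subgroup G) : Set G) := by
    intro g hg
    refine Sylow.smul_eq_iff_mem_normalizer.1 ?_
    refine hsub _ _ ?_ hSH
    rw [Sylow.coe_subgroup_smul]
    rintro _ ⟨s, hs, rfl⟩
    exact (mem_normalizer_iff.1 hg s).1 (hSH hs)
  have h2S : ∀ g ∈ N, ∀ k : ℕ, orderOf g = 2 ^ k → g ∈ S := by
    intro g hg k hk'
    have hp : IsPGroup 2 (zpowers g) := OddOrder.CN.isPGroup_zpowers hk'
    have h1 := S.is_maximal' (hp.to_sup_of_normal_right' S.isPGroup'
      ((zpowers_le.2 hg).trans hSN)) le_sup_right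
    exact h1.le (mem_sup_left (mem_zpowers g))
  have hse : Cfsg.IsStronglyEmbedded N := by
    rw [isStronglyEmbedded_iff hNtop (even_iff_two_dvd.2 (hz ▸ N.orderOf_dvd_natCard hzN))]
    intro i hi ho g hg
    have h1 : i ∈ S := h2S i hi 1 (by rw [ho, pow_one])
    have h2 : g⁻¹ * i * g ∈ S := h2S _ hg 1 (by
      rw [pow_one, ← ho]; simpa using orderOf_conj_eq g⁻¹ i)
    have h3 : g • S = S := by
      by_contra hne
      refine ne_one_of_orderOf_two ho (mem_bot.1 ?_)
      rw [← Cfsg.Agent.S4066.result h (g • S) S hne]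
      refine mem_inf.2 ⟨?_, h1⟩
      rw [Sylow.coe_subgroup_smul]
      exact ⟨_, h2, by simp [MulAut.conj_apply, mul_assoc]⟩
    refine h.mem_normalizer (self_mem_cent z) hz1 (hSH ?_)
    exact (mem_normalizer_iff.1 (Sylow.smul_eq_iff_mem_normalizer.1 h3) z).1 hzS
  refine ⟨N, ?_⟩
  have huf := SEmbed.uniqueFix hse
  haveI := SEmbed.nontrivial_cosets hse
  set x₀ : G ⧸ N := ((1 : G) : G ⧸ N) with hx₀
  obtain ⟨y, hy⟩ := exists_ne x₀
  have hinv : ∀ i : G, orderOf i = 2 → i ∈ N → centralizer ({i} : Set G) = H := by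
    intro i hi hiN
    obtain ⟨d, hd, hdi⟩ := exists_conj_fix huf hy.symm ⟨hz, (smul_one_eq_iff N z).2 hzN⟩
      ⟨hi, (smul_one_eq_iff N i).2 hiN⟩
    have hdN : d ∈ N := (smul_one_eq_iff N d).1 (mem_pairStab.1 hd).1
    ext c
    rw [mem_normalizer_iff.1 (inv_mem hdN) c, hHdef, mem_cent, mem_cent, ← hdi, inv_inv]
    show c * (d * z * d⁻¹) = d * z * d⁻¹ * c ↔ d⁻¹ * c * d * z = z * (d⁻¹ * c * d)
    constructor
    · intro e
      calc d⁻¹ * c * d * z = d⁻¹ * (c * (d * z * d⁻¹)) * d := by group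
        _ = z * (d⁻¹ * c * d) := by rw [e]; group
    · intro e
      calc c * (d * z * d⁻¹) = d * (d⁻¹ * c * d * z) * d⁻¹ := by group
        _ = d * z * d⁻¹ * c := by rw [e]; group
  have hx₀A : cA G x₀ = H := by
    ext c
    rw [mem_cA_iff]
    refine ⟨fun hc => mem_cent.2 (hc z hz ((smul_one_eq_iff N z).2 hzN)).symm,
      fun hc i hi hix => ?_⟩
    rw [← hinv i hi ((smul_one_eq_iff N i).1 hix)] at hc
    exact (mem_cent.1 hc).eq.symm
  have hAconj : ∀ (a c : G), c ∈ cA G (a • x₀) ↔ a⁻¹ * c * a ∈ cA G x₀ := by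
    intro a c
    refine ⟨fun hc => ?_, fun hc => ?_⟩
    · simpa using conj_mem_cA a⁻¹ hc
    · simpa [mul_assoc] using conj_mem_cA a hc
  have hN₀ : ∀ (a g : G), g • (a • x₀) = a • x₀ → a⁻¹ * g * a ∈ N := by
    intro a g hg
    rw [← smul_one_eq_iff N, mul_smul, mul_smul, hg, inv_smul_smul]
  refine ⟨h, hns, huf, inferInstance, fun x i hi hx => ?_, fun x g k' hgx hk' => ?_, fun x => ?_⟩
  · obtain ⟨a, rfl⟩ := huf.transitive x₀ x
    ext c
    rw [hAconj, hx₀A, ← hinv _ (by rw [← hi]; simpa using orderOf_conj_eq a⁻¹ i) (hN₀ a i hx),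
      mem_cent, mem_cent]
    show c * i = i * c ↔ a⁻¹ * c * a * (a⁻¹ * i * a) = a⁻¹ * i * a * (a⁻¹ * c * a)
    constructor
    · intro e
      calc a⁻¹ * c * a * (a⁻¹ * i * a) = a⁻¹ * (c * i) * a := by group
        _ = a⁻¹ * i * a * (a⁻¹ * c * a) := by rw [e]; group
    · intro e
      calc c * i = a * (a⁻¹ * c * a * (a⁻¹ * i * a)) * a⁻¹ := by group
        _ = i * c := by rw [e]; group
  · obtain ⟨a, rfl⟩ := huf.transitive x₀ x
    rw [hAconj, hx₀A]
    exact hSH (h2S _ (hN₀ a g hgx) k' (by rw [← hk']; simpa using orderOf_conj_eq a⁻¹ g))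
  · rw [card_invMap_self huf x x₀]
    by_contra hlt
    push Not at hlt
    haveI : Subsingleton (invMap (G := G) x₀ x₀) :=
      Finite.card_le_one_iff_subsingleton.1 (by omega)
    have huniq : ∀ i : G, orderOf i = 2 → i ∈ N → i = z := fun i hi hiN =>
      congrArg Subtype.val (Subsingleton.elim
        (⟨i, hi, (smul_one_eq_iff N i).2 hiN⟩ : invMap (G := G) x₀ x₀)
        ⟨z, hz, (smul_one_eq_iff N z).2 hzN⟩)
    obtain ⟨M, hM, hModd, hcomm⟩ := ZStar.exists_oddNormal_of_sylow S hz hzS fun g hg =>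
      huniq _ (by rw [orderOf_conj_eq, hz]) (hHN (hSH hg))
    refine hz1 (mem_bot.1 (h.center_eq_bot hns ▸ mem_center_iff.2 fun g => ?_))
    have h1 := hcomm g
    rw [h.eq_bot_of_normal_odd hns hM hModd, mem_bot, mul_inv_eq_one,
      mul_inv_eq_iff_eq_mul] at h1
    exact h1.symm

variable {Ω : Type*} [MulAction G Ω] (h : Conf G Ω)
include h

theorem Conf.exists_inv (x : Ω) : ∃ i : G, orderOf i = 2 ∧ i • x = x := h.uf.exists_inv x

theorem Conf.mem_of_commute {x : Ω} {i a : G} (hi : orderOf i = 2) (hx : i • x = x)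
    (hc : Commute a i) : a ∈ cA G x :=
  h.cent x i hi hx ▸ mem_cent.2 hc

theorem Conf.commute_of_mem {x : Ω} {i a : G} (hi : orderOf i = 2) (hx : i • x = x)
    (ha : a ∈ cA G x) : Commute a i :=
  mem_cent.1 ((h.cent x i hi hx).symm ▸ ha)

theorem Conf.invol_mem {x : Ω} {i : G} (hi : orderOf i = 2) (hx : i • x = x) : i ∈ cA G x :=
  h.mem_of_commute hi hx (Commute.refl i)

theorem Conf.cA_fix {x : Ω} {a : G} (ha : a ∈ cA G x) : a • x = x := by
  obtain ⟨i, hi, hx⟩ := h.exists_inv x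
  exact commute_fix h.uf hi (h.commute_of_mem hi hx ha) hx

theorem Conf.cA_ne_bot (x : Ω) : cA G x ≠ ⊥ := by
  obtain ⟨i, hi, hx⟩ := h.exists_inv x
  exact fun hb => ne_one_of_orderOf_two hi (mem_bot.1 (hb ▸ h.invol_mem hi hx))

theorem Conf.isNilpotent (x : Ω) : Group.IsNilpotent (cA G x) := by
  obtain ⟨i, hi, hx⟩ := h.exists_inv x
  rw [← h.cent x i hi hx]
  exact h.ti.isCNGroup i (ne_one_of_orderOf_two hi)

theorem Conf.conj_commute {x : Ω} {u g : G} (hu : u ∈ cA G x) (hg : g ∈ cA G x) :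
    Commute (g * u * g⁻¹) u := by
  obtain ⟨i, hi, hx⟩ := h.exists_inv x
  exact h.ti.conj_commute (ne_one_of_orderOf_two hi) (mem_cent.2 (h.commute_of_mem hi hx hu))
    (mem_cent.2 (h.commute_of_mem hi hx hg))

/-- `cA G x` contains the centraliser of each of its non-identity elements. -/
theorem Conf.centralizer_le {x : Ω} {a : G} (ha : a ∈ cA G x) (ha1 : a ≠ 1) :
    centralizer ({a} : Set G) ≤ cA G x := by
  intro c hc
  obtain ⟨i, hi, hx⟩ := h.exists_inv x
  have hca : Commute c a := mem_cent.1 hc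
  refine OddOrder.CN.mem_of_prime_pow_mem fun q k hq y hy hyo => ?_
  obtain ⟨m, rfl⟩ := mem_zpowers_iff.1 hy
  have hya : Commute (c ^ m) a := hca.zpow_left m
  by_cases hq2 : q = 2
  · subst hq2
    refine h.two_mem x _ k ?_ hyo
    have h1 := h.ti.mem_normalizer_of_commute (mem_cent.2 (h.commute_of_mem hi hx ha)) ha1 hya
    have h2 := (mem_normalizer_iff.1 h1 i).1 (self_mem_cent i)
    rw [h.cent x i hi hx] at h2
    refine h.uf.unique (c ^ m * i * (c ^ m)⁻¹) (by rw [orderOf_conj_eq, hi]) _ _ ?_ (h.cA_fix h2)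
    rw [mul_smul, inv_smul_smul, mul_smul, hx]
  · refine h.mem_of_commute hi hx (OddOrder.CN.commute_of_coprime h.ti.isCNGroup ha1 hya
      (h.commute_of_mem hi hx ha).symm ?_)
    rw [hyo, hi]
    exact ((Nat.coprime_primes hq Nat.prime_two).2 hq2).pow_left k

theorem Conf.invol_fix {x y : Ω} {i : G} (hi : orderOf i = 2) (hm : i ∈ cA G x)
    (hy : i • y = y) : x = y :=
  h.uf.unique i hi x y (h.cA_fix hm) hy

theorem Conf.eq_one_of_mem_two {x y : Ω} (hxy : x ≠ y) {a : G} (ha : a ∈ cA G x)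
    (hb : a ∈ cA G y) : a = 1 := by
  by_contra ha1
  obtain ⟨j, hj, hy⟩ := h.exists_inv y
  exact hxy (h.invol_fix hj (h.centralizer_le ha ha1
    (mem_cent.2 (h.commute_of_mem hj hy hb).symm)) hy)

theorem Conf.exists_swap {x y : Ω} (hxy : x ≠ y) : ∃ v : G, v ∈ invMap (G := G) x y := by
  obtain ⟨i, hi, hix⟩ := h.exists_inv x
  obtain ⟨j, hj, hjy⟩ := h.exists_inv y
  obtain ⟨v, hv, -⟩ := exists_interchange h.uf hi hj hix hjy hxy
  exact ⟨v, hv⟩

/-- A two point stabiliser meets `cA` trivially. -/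
theorem Conf.mem_inf_eq_one {x y : Ω} (hxy : x ≠ y) {a : G} (ha : a ∈ cA G x)
    (hd : a ∈ pairStab G x y) : a = 1 := by
  by_contra ha1
  obtain ⟨v, hv⟩ := h.exists_swap hxy
  have hb : v * a * v⁻¹ ∈ cA G y := by simpa [hv.2] using conj_mem_cA v ha
  have hvy : v • y = x := smul_back hv.1 hv.2
  have hbx : (v * a * v⁻¹) • x = x := by
    rw [mul_smul, mul_smul, inv_smul_eq_iff.2 hvy.symm, (mem_pairStab.1 hd).2, hvy]
  have hc : Commute a (v * a * v⁻¹) := by
    have h1 : a * (v * a * v⁻¹) * a⁻¹ * (v * a * v⁻¹)⁻¹ = 1 := by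
      refine h.eq_one_of_mem_two hxy ?_ ?_
      · rw [show a * (v * a * v⁻¹) * a⁻¹ * (v * a * v⁻¹)⁻¹
          = a * ((v * a * v⁻¹) * a⁻¹ * (v * a * v⁻¹)⁻¹) by group]
        exact mul_mem ha (conj_mem_cA_of_fix hbx (inv_mem ha))
      · exact mul_mem (conj_mem_cA_of_fix (mem_pairStab.1 hd).2 hb) (inv_mem hb)
    exact mul_inv_eq_iff_eq_mul.1 (mul_inv_eq_one.1 h1)
  refine ha1 ?_
  have h2 := h.eq_one_of_mem_two hxy (h.centralizer_le ha ha1 (mem_cent.2 hc.symm)) hb
  rwa [mul_inv_eq_one, mul_eq_left] at h2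

theorem Conf.card_pairStab {x y : Ω} (hxy : x ≠ y) :
    Nat.card (pairStab G x y) = Nat.card (invMap (G := G) x x) := by
  obtain ⟨s, hs, hsx⟩ := h.exists_inv x
  rw [card_eq_mul_of_transitive (pairStab G x y) (X := invMap (G := G) x x) (s := s) ⟨hs, hsx⟩
      (fun d hd => ⟨by rw [orderOf_conj_eq, hs], by
        rw [mul_smul, mul_smul, inv_smul_eq_iff.2 (mem_pairStab.1 hd).1.symm, hsx,
          (mem_pairStab.1 hd).1]⟩)
      (fun t ht => exists_conj_fix h.uf hxy ⟨hs, hsx⟩ ht),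
    h.cent x s hs hsx, show pairStab G x y ⊓ cA G x = ⊥ from (eq_bot_iff_forall _).2
      fun a ha => h.mem_inf_eq_one hxy ha.2 ha.1, Subgroup.card_bot, mul_one]

theorem Conf.odd_r (x : Ω) : Odd (Nat.card (invMap (G := G) x x)) := by
  haveI := h.nontriv
  obtain ⟨y, hy⟩ := exists_ne x
  exact h.card_pairStab hy.symm ▸ odd_pairStab h.uf hy.symm

theorem Conf.three_le (x : Ω) : 3 ≤ Nat.card (invMap (G := G) x x) := by
  obtain ⟨k, hk⟩ := h.odd_r x
  have := h.two_le x
  omega

end CfsgLib.TICentralizers
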