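import Cfsg.Agent.TICentralizers.Conf

/-!
# Insoluble groups with T.I. centralisers: the point stabiliser is a Frobenius group

The proofs follow `Cfsg.Agent.InvCentAbelian.Frobenius`, with nilpotent instead of abelian kernels.
-/

set_option autoImplicit false
set_option linter.unusedSectionVars false

namespace CfsgLib.TICentralizers

open Subgroup CfsgLib.SEmbed CfsgLib.Small CfsgLib.InvCentAbelian

variable {G : Type*} [Group G] {Ω : Type*} [MulAction G Ω] [Finite G] (h : Conf G Ω)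
include h

theorem Conf.exists_ne_one {x y : Ω} (hxy : x ≠ y) : ∃ d ∈ pairStab G x y, d ≠ 1 := by
  by_contra hc
  push Not at hc
  have h1 := Subgroup.card_eq_one.2 ((eq_bot_iff_forall _).2 hc)
  have h2 := h.two_le x
  rw [h.card_pairStab hxy] at h1
  omega

theorem Conf.swap_inverts {x y : Ω} (hxy : x ≠ y) {v d : G} (hv : v ∈ invMap (G := G) x y)
    (hd : d ∈ pairStab G x y) : v * d * v⁻¹ = d⁻¹ := by
  have hcard : Nat.card (invMap (G := G) x y) = Nat.card (pairStab G x y) := by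
    rw [card_invMap_eq h.uf hxy, h.card_pairStab hxy]
  have hm : ∀ j : invMap (G := G) x y, v * (j : G) ∈ pairStab G x y := fun j => mem_pairStab.2
    ⟨by rw [mul_smul, j.2.2, smul_back hv.1 hv.2],
      by rw [mul_smul, smul_back j.2.1 j.2.2, hv.2]⟩
  obtain ⟨j, hj⟩ := ((Nat.bijective_iff_injective_and_card
    (fun j => (⟨_, hm j⟩ : pairStab G x y))).2 ⟨fun a b e =>
      Subtype.ext (mul_left_cancel (congrArg Subtype.val e)), hcard⟩).2 ⟨d, hd⟩
  have hj' : v * (j : G) = d := congrArg Subtype.val hj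
  rw [← hj', mul_inv_rev, inv_eq_self_of_orderOf_two hv.1, inv_eq_self_of_orderOf_two j.2.1,
    ← mul_assoc, mul_self_of_orderOf_two hv.1, one_mul]

theorem Conf.pairStab_comm {x y : Ω} (hxy : x ≠ y) {a b : G} (ha : a ∈ pairStab G x y)
    (hb : b ∈ pairStab G x y) : Commute a b := by
  obtain ⟨v, hv⟩ := h.exists_swap hxy
  have key := h.swap_inverts hxy hv (mul_mem hb ha)
  rw [show v * (b * a) * v⁻¹ = (v * b * v⁻¹) * (v * a * v⁻¹) by group,
    h.swap_inverts hxy hv hb, h.swap_inverts hxy hv ha, ← mul_inv_rev] at key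
  exact inv_injective key

theorem Conf.pow_two_ne {x y : Ω} (hxy : x ≠ y) {d : G} (hd : d ∈ pairStab G x y) (hd1 : d ≠ 1) :
    d * d ≠ 1 := by
  intro h2
  have hodd := (odd_pairStab h.uf hxy).of_dvd_nat (Subgroup.orderOf_dvd_natCard _ hd)
  rw [orderOf_eq_prime (by rw [sq]; exact h2) hd1] at hodd
  exact absurd hodd (by decide)

/-- An element of a two point stabilizer commutes with no involution. -/
theorem Conf.not_commute_invol {x y : Ω} (hxy : x ≠ y) {d i : G} (hd : d ∈ pairStab G x y)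
    (hi : orderOf i = 2) (hc : Commute d i) : d = 1 := by
  obtain ⟨z, hz⟩ := h.uf.exists_fix i hi
  have hdA : d ∈ cA G z := h.mem_of_commute hi hz hc
  by_cases hzx : z = x
  · subst hzx
    exact h.mem_inf_eq_one hxy hdA hd
  · exact h.mem_inf_eq_one hzx hdA
      (mem_pairStab.2 ⟨h.cA_fix hdA, (mem_pairStab.1 hd).1⟩)

/-- A non-identity element fixes at most two points. -/
theorem Conf.eq_one_of_fix_three {x y z : Ω} (hxy : x ≠ y) (hxz : x ≠ z) (hyz : y ≠ z) {d : G}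
    (hd : d ∈ pairStab G x y) (hdz : d • z = z) : d = 1 := by
  by_contra hd1
  obtain ⟨hdx, hdy⟩ := mem_pairStab.1 hd
  obtain ⟨v₁, hv₁⟩ := h.exists_swap hxz
  obtain ⟨v₂, hv₂⟩ := h.exists_swap hyz.symm
  obtain ⟨v, hv⟩ := h.exists_swap hxy
  have e₁ := h.swap_inverts hxz hv₁ (mem_pairStab.2 ⟨hdx, hdz⟩)
  have e₂ := h.swap_inverts hyz.symm hv₂ (mem_pairStab.2 ⟨hdz, hdy⟩)
  have e₀ := h.swap_inverts hxy hv hd
  set g := v * (v₂ * v₁) with hg
  have hgx : g • x = x := by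
    rw [hg, mul_smul, mul_smul, hv₁.2, hv₂.2, smul_back hv.1 hv.2]
  have e₂' : v₂ * d⁻¹ * v₂⁻¹ = d := by
    have h3 := congrArg Inv.inv e₂
    rw [inv_inv] at h3
    exact (show v₂ * d⁻¹ * v₂⁻¹ = (v₂ * d * v₂⁻¹)⁻¹ by group).trans h3
  have hgd : g * d * g⁻¹ = d⁻¹ := by
    rw [hg, show v * (v₂ * v₁) * d * (v * (v₂ * v₁))⁻¹
      = v * (v₂ * (v₁ * d * v₁⁻¹) * v₂⁻¹) * v⁻¹ by group, e₁, e₂', e₀]
  set k := Nat.card (Subgroup.centralizer ({d} : Set G)) with hk
  have hkodd : Odd k := by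
    by_contra hodd
    obtain ⟨i, hi, ho⟩ := exists_invol_mem (Nat.not_odd_iff_even.1 hodd)
    exact hd1 (h.not_commute_invol hxy hd ho (mem_centralizer_singleton_iff.1 hi).symm)
  have hgd' : g * d⁻¹ * g⁻¹ = d := by
    have h3 := congrArg Inv.inv hgd
    rw [inv_inv] at h3
    exact (show g * d⁻¹ * g⁻¹ = (g * d * g⁻¹)⁻¹ by group).trans h3
  have hg2 : g * g ∈ Subgroup.centralizer ({d} : Set G) := by
    rw [mem_centralizer_singleton_iff]
    refine mul_inv_eq_iff_eq_mul.1 ?_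
    rw [show g * g * d * (g * g)⁻¹ = g * (g * d * g⁻¹) * g⁻¹ by group, hgd, hgd']
  have hinv : ∀ n : ℕ, g ^ (2 * n + 1) * d * (g ^ (2 * n + 1))⁻¹ = d⁻¹ := by
    intro n
    induction n with
    | zero => simpa using hgd
    | succ n ih =>
      rw [show 2 * (n + 1) + 1 = 2 + (2 * n + 1) by ring, pow_add, sq,
        show g * g * g ^ (2 * n + 1) * d * (g * g * g ^ (2 * n + 1))⁻¹
          = g * g * (g ^ (2 * n + 1) * d * (g ^ (2 * n + 1))⁻¹) * (g * g)⁻¹ by group, ih,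
        show g * g * d⁻¹ * (g * g)⁻¹ = g * (g * d⁻¹ * g⁻¹) * g⁻¹ by group, hgd', hgd]
  obtain ⟨n, hn⟩ := hkodd
  set i := g ^ k with hik
  have hid : i * d * i⁻¹ = d⁻¹ := by rw [hik, hn]; exact hinv n
  have hd2 : d⁻¹ ≠ d := fun e =>
    h.pow_two_ne hxy hd hd1 (by nth_rewrite 1 [← e]; exact inv_mul_cancel d)
  have hi : orderOf i = 2 := by
    refine orderOf_eq_prime ?_ fun h1 => hd2 ?_
    · rw [hik, ← pow_mul, mul_comm, pow_mul, sq]
      exact congrArg Subtype.val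
        (pow_card_eq_one' (x := (⟨g * g, hg2⟩ : Subgroup.centralizer ({d} : Set G))))
    · rw [← hid, h1, one_mul, inv_one, mul_one]
  have hix : i • x = x := MulAction.mem_stabilizer_iff.1 (pow_mem (show g ∈
    MulAction.stabilizer G x from hgx) k)
  have hiA := h.invol_mem hi hix
  have hmem : d⁻¹ * d⁻¹ ∈ cA G x := by
    have h1 : i * (d * i⁻¹ * d⁻¹) ∈ cA G x :=
      mul_mem hiA (conj_mem_cA_of_fix hdx (inv_mem hiA))
    rwa [← mul_assoc, ← mul_assoc, hid] at h1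
  have h2 := h.mem_inf_eq_one hxy hmem (mul_mem (inv_mem hd) (inv_mem hd))
  exact h.pow_two_ne hxy (inv_mem hd) (fun e => hd1 (inv_eq_one.1 e)) h2

theorem Conf.cA_semiregular {x y : Ω} (hxy : x ≠ y) {a : G} (ha : a ∈ cA G x) (hy : a • y = y) :
    a = 1 :=
  h.mem_inf_eq_one hxy ha (mem_pairStab.2 ⟨h.cA_fix ha, hy⟩)

/-- Every element fixing `x` agrees with an element of the two point stabilizer modulo `cA`. -/
theorem Conf.exists_decomp {x y : Ω} (hxy : x ≠ y) {g : G} (hg : g • x = x) :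
    ∃ d ∈ pairStab G x y, g * d⁻¹ ∈ cA G x := by
  obtain ⟨s, hs, hsx⟩ := h.exists_inv x
  have hg' : g⁻¹ • x = x := inv_smul_eq_iff.2 hg.symm
  have hgs : g⁻¹ * s * g ∈ invMap (G := G) x x :=
    ⟨by rw [← hs]; simpa using orderOf_conj_eq g⁻¹ s, by rw [mul_smul, mul_smul, hg, hsx, hg']⟩
  obtain ⟨d, hd, e⟩ := exists_conj_fix h.uf hxy hgs ⟨hs, hsx⟩
  refine ⟨d, hd, ?_⟩
  have hdx : d⁻¹ • x = x := inv_smul_eq_iff.2 (mem_pairStab.1 hd).1.symm
  have h1 : Commute (d * g⁻¹) s := mul_inv_eq_iff_eq_mul.1 (by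
    rw [← show d * (g⁻¹ * s * g) * d⁻¹ = d * g⁻¹ * s * (d * g⁻¹)⁻¹ by group, e])
  refine h.mem_of_commute hs hsx ?_
  simpa using h1.inv_left

theorem Conf.exists_decomp' {x y : Ω} (hxy : x ≠ y) {g : G} (hg : g • x = x) :
    ∃! p : ↥(cA G x) × ↥(pairStab G x y), (p.1 : G) * (p.2 : G) = g := by
  obtain ⟨d, hd, hm⟩ := h.exists_decomp hxy hg
  refine ⟨(⟨_, hm⟩, ⟨d, hd⟩), inv_mul_cancel_right g d, ?_⟩
  rintro ⟨⟨a, ha⟩, ⟨e, he⟩⟩ (h1 : a * e = g)
  have h2 : e * d⁻¹ = 1 := by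
    refine h.mem_inf_eq_one hxy ?_ (mul_mem he (inv_mem hd))
    rw [show e * d⁻¹ = a⁻¹ * (g * d⁻¹) by rw [← h1]; group]
    exact mul_mem (inv_mem ha) hm
  have h3 : e = d := mul_inv_eq_one.1 h2
  subst h3
  exact Prod.ext (Subtype.ext (eq_mul_inv_of_mul_eq h1)) rfl

theorem Conf.card_stabilizer {x y : Ω} (hxy : x ≠ y) :
    Nat.card (MulAction.stabilizer G x) =
      Nat.card (cA G x) * Nat.card (invMap (G := G) x x) := by
  rw [← h.card_pairStab hxy, ← Nat.card_prod]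
  refine (Nat.card_eq_of_bijective (fun p : ↥(cA G x) × ↥(pairStab G x y) =>
    (⟨(p.1 : G) * (p.2 : G), mul_mem (h.cA_fix p.1.2) (mem_pairStab.1 p.2.2).1⟩ :
      MulAction.stabilizer G x)) ⟨fun p q e => ?_, fun g => ?_⟩).symm
  · obtain ⟨r, -, hr⟩ := h.exists_decomp' hxy (g := (p.1 : G) * (p.2 : G))
      (mul_mem (s := MulAction.stabilizer G x) (h.cA_fix p.1.2) (mem_pairStab.1 p.2.2).1)
    rw [hr p rfl, hr q (congrArg Subtype.val e).symm]
  · obtain ⟨p, hp, -⟩ := h.exists_decomp' hxy g.2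
    exact ⟨p, Subtype.ext hp⟩

theorem Conf.conj_pairStab_ne {x y : Ω} (hxy : x ≠ y) {a : G} (ha : a ∈ cA G x) : a • y ≠ x := fun e =>
  hxy (smul_left_cancel a ((h.cA_fix ha).trans e.symm))

/-- Every element of the point stabilizer outside `cA` is conjugate to an element of a fixed two
point stabilizer. -/
theorem Conf.exists_conj_pairStab {x y : Ω} (hxy : x ≠ y) {g : G} (hgx : g • x = x)
    (hg : g ∉ cA G x) : ∃ a ∈ cA G x, ∃ d ∈ pairStab G x y, d ≠ 1 ∧ g = a * d * a⁻¹ := by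
  classical
  have hmem : ∀ p : ↥(cA G x) × {d : pairStab G x y // d ≠ 1},
      (p.1 : G) * (p.2.1 : G) * (p.1 : G)⁻¹ ∈ MulAction.stabilizer G x ∧
        (p.1 : G) * (p.2.1 : G) * (p.1 : G)⁻¹ ∉ cA G x := by
    intro p
    have h1 : (p.1 : G) • x = x := h.cA_fix p.1.2
    refine ⟨mul_mem (mul_mem h1 (mem_pairStab.1 p.2.1.2).1) (inv_mem h1), fun hm => p.2.2 ?_⟩
    refine Subtype.ext (h.mem_inf_eq_one hxy ?_ p.2.1.2)
    simpa [mul_assoc] using mul_mem (mul_mem (inv_mem p.1.2) hm) p.1.2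
  let f : ↥(cA G x) × {d : pairStab G x y // d ≠ 1} →
      {g : G // g ∈ MulAction.stabilizer G x ∧ g ∉ cA G x} := fun p => ⟨_, hmem p⟩
  have hf : Function.Injective f := by
    intro p q e
    have e' : (p.1 : G) * (p.2.1 : G) * (p.1 : G)⁻¹ = (q.1 : G) * (q.2.1 : G) * (q.1 : G)⁻¹ :=
      congrArg Subtype.val e
    have hfix : ∀ (a d : G), d • y = y → (a * d * a⁻¹) • a • y = a • y := fun a d hd => by
      rw [mul_smul, inv_smul_smul, mul_smul, hd]
    have hpy : (p.1 : G) • y = (q.1 : G) • y := by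
      by_contra hne
      have h1 : (p.1 : G) * (p.2.1 : G) * (p.1 : G)⁻¹ = 1 :=
        h.eq_one_of_fix_three (h.conj_pairStab_ne hxy p.1.2).symm
          (h.conj_pairStab_ne hxy q.1.2).symm hne
          (mem_pairStab.2 ⟨(hmem p).1, hfix _ _ (mem_pairStab.1 p.2.1.2).2⟩)
          (by rw [e']; exact hfix _ _ (mem_pairStab.1 q.2.1.2).2)
      exact (hmem p).2 (h1 ▸ one_mem _)
    have h1 : (q.1 : G)⁻¹ * p.1 = 1 := h.cA_semiregular hxy (mul_mem (inv_mem q.1.2) p.1.2)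
      (by rw [mul_smul, hpy, inv_smul_smul])
    have h2 : p.1 = q.1 := Subtype.ext (inv_mul_eq_one.1 h1).symm
    rw [h2] at e'
    exact Prod.ext h2 (Subtype.ext (Subtype.ext (mul_left_cancel (mul_right_cancel e'))))
  have hA : ∀ a : G, a ∈ cA G x → a ∈ MulAction.stabilizer G x := fun a ha => h.cA_fix ha
  have hcard : Nat.card (↥(cA G x) × {d : pairStab G x y // d ≠ 1}) =
      Nat.card {g : G // g ∈ MulAction.stabilizer G x ∧ g ∉ cA G x} := by
    rw [Nat.card_prod]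
    show Nat.card (cA G x) * Nat.card ({d : pairStab G x y | d ≠ 1} : Set (pairStab G x y)) =
      Nat.card (((MulAction.stabilizer G x : Set G) \ (cA G x : Set G)) : Set G)
    rw [Nat.card_coe_set_eq, Nat.card_coe_set_eq,
      show {d : pairStab G x y | d ≠ 1} = Set.univ \ {1} by ext; simp,
      Set.ncard_sdiff_singleton_of_mem (Set.mem_univ _), Set.ncard_univ,
      h.card_pairStab hxy, Set.ncard_sdiff (t := (MulAction.stabilizer G x : Set G)) hA,
      ← Nat.card_coe_set_eq, ← Nat.card_coe_set_eq]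
    show _ = Nat.card (MulAction.stabilizer G x) - Nat.card (cA G x)
    rw [h.card_stabilizer hxy, Nat.mul_sub_one]
  obtain ⟨p, hp⟩ := ((Nat.bijective_iff_injective_and_card f).2 ⟨hf, hcard⟩).2 ⟨g, hgx, hg⟩
  exact ⟨p.1, p.1.2, p.2.1, p.2.1.2, fun e => p.2.2 (Subtype.ext e), (congrArg Subtype.val hp).symm⟩

/-- `cA` is transitive on the other points. -/
theorem Conf.exists_cA_smul {x y z : Ω} (hxy : x ≠ y) (hxz : x ≠ z) : ∃ a ∈ cA G x, a • y = z := by
  obtain ⟨e, he, he1⟩ := h.exists_ne_one hxz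
  obtain ⟨a, ha, d, hd, -, rfl⟩ := h.exists_conj_pairStab hxy (mem_pairStab.1 he).1
    fun hm => he1 (h.mem_inf_eq_one hxz hm he)
  refine ⟨a, ha, ?_⟩
  by_contra hne
  refine he1 (h.eq_one_of_fix_three hxz (h.conj_pairStab_ne hxy ha).symm
    (Ne.symm hne) he ?_)
  rw [mul_smul, inv_smul_smul, mul_smul, (mem_pairStab.1 hd).2]

/-- Every element of the point stabilizer outside `cA` fixes another point. -/
theorem Conf.exists_fix_other {x : Ω} {g : G} (hgx : g • x = x) (hg : g ∉ cA G x) :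
    ∃ y, x ≠ y ∧ g • y = y := by
  haveI := h.nontriv
  obtain ⟨y, hy⟩ := exists_ne x
  obtain ⟨a, ha, d, hd, -, rfl⟩ := h.exists_conj_pairStab hy.symm hgx hg
  exact ⟨a • y, (h.conj_pairStab_ne hy.symm ha).symm,
    by rw [mul_smul, inv_smul_smul, mul_smul, (mem_pairStab.1 hd).2]⟩

theorem Conf.card_points (x : Ω) : Nat.card Ω = Nat.card (cA G x) + 1 := by
  classical
  haveI := h.nontriv
  haveI := finite_points h.uf
  obtain ⟨y, hy⟩ := exists_ne x
  have hbij : Function.Bijective (fun o : Option (cA G x) =>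
      o.elim x fun a => (a : G) • y) := by
    refine ⟨?_, fun z => ?_⟩
    · rintro (_ | s) (_ | t) e <;> simp only [Option.elim] at e
      · rfl
      · exact absurd e.symm (h.conj_pairStab_ne hy.symm t.2)
      · exact absurd e (h.conj_pairStab_ne hy.symm s.2)
      · exact congrArg some (Subtype.ext (inv_mul_eq_one.1
          (h.cA_semiregular hy.symm (mul_mem (inv_mem t.2) s.2)
            (by rw [mul_smul, e, inv_smul_smul]))).symm)
    · by_cases hz : x = z
      · exact ⟨none, hz⟩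
      · obtain ⟨a, ha, e⟩ := h.exists_cA_smul hy.symm hz
        exact ⟨some ⟨a, ha⟩, e⟩
  rw [← Nat.card_eq_of_bijective _ hbij, Finite.card_option]

/-- `cA` is the centralizer of each of its non-identity elements. -/
theorem Conf.normalizer_cA (x : Ω) :
    Subgroup.normalizer (cA G x : Set G) = MulAction.stabilizer G x := by
  refine le_antisymm (fun g hg => ?_) fun g hg => mem_normalizer_iff.2 fun a => ?_
  · obtain ⟨i, hi, hx⟩ := h.exists_inv x
    have h1 := (mem_normalizer_iff.1 hg i).1 (h.invol_mem hi hx)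
    rw [MulAction.mem_stabilizer_iff]
    by_contra hne
    refine ne_one_of_orderOf_two hi ?_
    have h2 := h.eq_one_of_mem_two (Ne.symm hne) h1 (conj_mem_cA g (h.invol_mem hi hx))
    simpa [mul_inv_eq_one, mul_eq_left] using h2
  · refine ⟨conj_mem_cA_of_fix hg, fun h1 => ?_⟩
    simpa [mul_assoc] using conj_mem_cA_of_fix (g := g⁻¹) (inv_smul_eq_iff.2 (MulAction.mem_stabilizer_iff.1 hg).symm) h1

theorem Conf.isTI_cA (x : Ω) {g : G} (hg : g • x ≠ x) {a : G} (ha : a ∈ cA G x)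
    (hga : g * a * g⁻¹ ∈ cA G x) : a = 1 := by
  have h1 := h.eq_one_of_mem_two hg.symm hga (conj_mem_cA g ha)
  simpa [mul_inv_eq_one, mul_eq_left] using h1


end CfsgLib.TICentralizers
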