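import Cfsg.Agent.TICentralizers.Structure
import Cfsg.Agent.Coherence.IrrAbove

/-!
# Insoluble groups with T.I. centralisers: the point stabiliser as a Frobenius group, character sums
-/

set_option autoImplicit false
set_option linter.unusedSectionVars false
set_option linter.style.haveILetI false

namespace CfsgLib.TICentralizers

open Subgroup CfsgLib.SEmbed CfsgLib.Small CfsgLib.InvCentAbelian CfsgLib.Characters Cfsg

universe u v

open Classical in
/-- A class function whose coefficients at the non-principal characters are proportional to the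
degrees. -/
theorem apply_of_deg_coeff {B : Type u} [Group B] [Fintype B] {f : B → ℂ}
    (hcl : IsClassFunction B f) {c g : ℂ} (hc : classInner f (fun _ => 1) = c)
    (hg : ∀ χ : IrrCharacter B, (χ : B → ℂ) ≠ (fun _ => 1) →
      classInner f (χ : B → ℂ) = g * (χ : B → ℂ) 1)
    (a : B) : f a = (c - g) + if a = 1 then (Nat.card B : ℂ) * g else 0 := by
  classical
  have h1 := congrFun (classFunction_expansion hcl) a
  simp only [Finset.sum_apply, Pi.smul_apply, smul_eq_mul] at h1
  rw [h1, ← Finset.add_sum_erase Finset.univ _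
      (Finset.mem_univ (⟨_, isIrr_one⟩ : IrrCharacter B)), hc,
    Finset.sum_congr rfl fun χ hχ => by
      rw [hg χ fun h => Finset.ne_of_mem_erase hχ (Subtype.ext h), mul_assoc], ← Finset.mul_sum]
  have hsum : ∑ χ ∈ (Finset.univ : Finset (IrrCharacter B)).erase ⟨_, isIrr_one⟩,
      (χ : B → ℂ) 1 * (χ : B → ℂ) a = (if a = 1 then (Nat.card B : ℂ) else 0) - 1 := by
    rw [← sum_degree_mul a, ← Finset.add_sum_erase Finset.univ _
      (Finset.mem_univ (⟨_, isIrr_one⟩ : IrrCharacter B))]
    simp only [mul_one]
    rw [add_sub_cancel_left]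
  rw [hsum]
  split_ifs <;> ring

variable {G : Type u} [Group G] {Ω : Type v} [MulAction G Ω] [Fintype G] (h : Conf G Ω)

noncomputable local instance fintypeSubLocal (M : Subgroup G) : Fintype M := Fintype.ofFinite M

include h

theorem Conf.cA_le_stabilizer (x : Ω) : cA G x ≤ MulAction.stabilizer G x :=
  fun _ ha => h.cA_fix ha

theorem Conf.sub_normal (x : Ω) :
    ((cA G x).subgroupOf (MulAction.stabilizer G x)).Normal :=
  (Subgroup.normal_subgroupOf_iff_le_normalizer (h.cA_le_stabilizer x)).2 (h.normalizer_cA x).ge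

theorem Conf.invCore_normal (x : Ω) :
    ((h.invCore x).subgroupOf (MulAction.stabilizer G x)).Normal :=
  ⟨fun a ha g => h.invCore_conj (MulAction.mem_stabilizer_iff.1 g.2) ha⟩

theorem Conf.isTI (x : Ω) : Cfsg.IsTISubset (cA G x : Set G) := by
  intro g hg a ha hga
  rw [h.normalizer_cA x] at hg
  exact h.isTI_cA x hg ha hga

theorem Conf.hfix (x : Ω) :
    ∀ k ∈ (cA G x).subgroupOf (MulAction.stabilizer G x), k ≠ 1 →
      centralizer ({k} : Set (MulAction.stabilizer G x)) ≤
        (cA G x).subgroupOf (MulAction.stabilizer G x) :=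
  fun _ hk hk1 _ hc => Subgroup.mem_subgroupOf.2 <| h.centralizer_le (Subgroup.mem_subgroupOf.1 hk)
    (fun e => hk1 (Subtype.ext e)) (Subgroup.mem_centralizer_singleton_iff.2
      (congrArg Subtype.val (Subgroup.mem_centralizer_singleton_iff.1 hc)))

theorem Conf.card_sub (x : Ω) :
    Nat.card ((cA G x).subgroupOf (MulAction.stabilizer G x)) = Nat.card (cA G x) :=
  Nat.card_congr (Subgroup.subgroupOfEquivOfLe (h.cA_le_stabilizer x)).toEquiv

theorem Conf.card_stab (x : Ω) : Nat.card (MulAction.stabilizer G x) =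
    Nat.card (cA G x) * Nat.card (invMap (G := G) x x) := by
  haveI := h.nontriv
  obtain ⟨y, hy⟩ := exists_ne x
  exact h.card_stabilizer hy.symm

theorem Conf.index_sub (x : Ω) :
    ((cA G x).subgroupOf (MulAction.stabilizer G x)).index = Nat.card (invMap (G := G) x x) := by
  have h1 := ((cA G x).subgroupOf (MulAction.stabilizer G x)).index_mul_card
  rw [h.card_sub x, h.card_stab x, mul_comm (Nat.card (cA G x))] at h1
  exact Nat.eq_of_mul_eq_mul_right Nat.card_pos h1

theorem Conf.sub_lt_top (x : Ω) : (cA G x).subgroupOf (MulAction.stabilizer G x) < ⊤ := by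
  refine lt_top_iff_ne_top.2 fun e => ?_
  have h1 := h.index_sub x
  rw [e, Subgroup.index_top] at h1
  have := h.three_le x
  omega

theorem Conf.card_centralizer_sub {x : Ω} {k : MulAction.stabilizer G x} (hk : (k : G) ∈ cA G x)
    (hk1 : k ≠ 1) :
    Nat.card (centralizer ({k} : Set (MulAction.stabilizer G x))) =
      Nat.card (centralizer ({(k : G)} : Set G)) :=
  Nat.card_congr
    { toFun := fun c => ⟨((c : MulAction.stabilizer G x) : G),
        mem_centralizer_singleton_iff.2 (congrArg Subtype.val (mem_centralizer_singleton_iff.1 c.2))⟩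
      invFun := fun c => ⟨⟨(c : G), h.cA_le_stabilizer x
          (h.centralizer_le hk (fun e => hk1 (Subtype.ext e)) c.2)⟩,
        mem_centralizer_singleton_iff.2 (Subtype.ext (mem_centralizer_singleton_iff.1 c.2))⟩
      left_inv := fun _ => rfl
      right_inv := fun _ => rfl }

omit h in
/-- The second orthogonality relation, in real form. -/
theorem sum_normSq_irr {B : Type u} [Group B] [Fintype B] (k : B) :
    ∑ χ : IrrCharacter B, Complex.normSq ((χ : B → ℂ) k) =
      (Nat.card (centralizer ({k} : Set B)) : ℝ) := by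
  have h1 := sum_irr_mul_conj_of_isConj (IsConj.refl k)
  simp only [Complex.mul_conj] at h1
  exact_mod_cast h1

omit h in
/-- The values of distinct irreducible characters in a family at one element. -/
theorem sum_normSq_le {ι : Type*} [Fintype ι] {B : Type u} [Group B] [Fintype B] (μ : ι → B → ℂ)
    (hμ : ∀ i, IsIrrCharacter B (μ i)) (hinj : Function.Injective μ) (k : B) :
    ∑ i, Complex.normSq (μ i k) ≤ (Nat.card (centralizer ({k} : Set B)) : ℝ) := by
  classical
  have hj : Function.Injective (fun i => (⟨μ i, hμ i⟩ : IrrCharacter B)) := fun a b e =>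
    hinj (congrArg Subtype.val e)
  rw [← sum_normSq_irr k,
    ← Finset.sum_image (f := fun χ : IrrCharacter B => Complex.normSq ((χ : B → ℂ) k))
      (g := fun i => (⟨μ i, hμ i⟩ : IrrCharacter B)) (s := (Finset.univ : Finset ι))
      hj.injOn]
  exact Finset.sum_le_sum_of_subset_of_nonneg (Finset.subset_univ _)
    fun χ _ _ => Complex.normSq_nonneg _

omit h in
/-- The same, when the principal character is not in the family. -/
theorem sum_normSq_le' {ι : Type*} [Fintype ι] {B : Type u} [Group B] [Fintype B] (μ : ι → B → ℂ)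
    (hμ : ∀ i, IsIrrCharacter B (μ i)) (hinj : Function.Injective μ)
    (hne : ∀ i, μ i ≠ fun _ => 1) (k : B) :
    1 + ∑ i, Complex.normSq (μ i k) ≤ (Nat.card (centralizer ({k} : Set B)) : ℝ) := by
  classical
  refine le_trans (le_of_eq ?_) (sum_normSq_le (ι := Option ι) (fun o => o.elim (fun _ => 1) μ) ?_ ?_ k)
  · rw [Fintype.sum_option]; simp
  · rintro (_ | i)
    exacts [isIrr_one, hμ i]
  · rintro (_ | i) (_ | j) e <;> simp only [Option.elim] at e
    exacts [rfl, absurd e.symm (hne j), absurd e (hne i), congrArg some (hinj e)]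

/-- The values on `cA G x` of a character of `N` vanishing off `cA G x`. -/
theorem Conf.sum_sub_of_off {x : Ω} {R : Type*} [AddCommMonoid R]
    (f : MulAction.stabilizer G x → R)
    (hoff : ∀ a : MulAction.stabilizer G x,
      a ∉ (cA G x).subgroupOf (MulAction.stabilizer G x) → f a = 0)
    [Fintype ((cA G x).subgroupOf (MulAction.stabilizer G x))] :
    ∑ k : (cA G x).subgroupOf (MulAction.stabilizer G x), f k = ∑ a, f a := by
  classical
  rw [← Fintype.sum_subtype_add_sum_subtype
      (fun a => a ∈ (cA G x).subgroupOf (MulAction.stabilizer G x)) f,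
    Finset.sum_eq_zero
      (s := (Finset.univ : Finset {a // a ∉ (cA G x).subgroupOf (MulAction.stabilizer G x)}))
      (fun a _ => hoff a a.2), add_zero]
  exact Finset.sum_congr (by ext; simp) fun _ _ => rfl

/-- `r` divides `n - 1`. -/
theorem Conf.exists_mul_add_one (x : Ω) :
    ∃ S : ℕ, Nat.card (invMap (G := G) x x) * S + 1 = Nat.card (cA G x) := by
  classical
  set N := MulAction.stabilizer G x with hN
  set K := (cA G x).subgroupOf N with hK
  haveI : K.Normal := h.sub_normal x
  haveI : Fintype K := Fintype.ofFinite K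
  have hFirr := Coherence.frob_irr (A := (⊥ : Subgroup N)) (h.hfix x)
  set F := (Coherence.finite_irr_set hFirr).toFinset with hF
  have hFcoe : (↑F : Set (N → ℂ)) = inducedIrrAbove K ⊥ := Set.Finite.coe_toFinset _
  refine ⟨∑ θ ∈ F, Coherence.relDeg K θ ^ 2, ?_⟩
  have h1 := Coherence.sum_deg_sq_div K (⊥ : Subgroup N) F hFcoe
  rw [Finset.sum_congr rfl fun θ hθ => by
    rw [Coherence.relDeg_spec hFcoe hθ,
      classInner_isIrr_self (hFirr θ (hFcoe ▸ Finset.mem_coe.2 hθ)), div_one, mul_pow],
    ← Finset.sum_mul, Subgroup.relIndex_bot_left, h.card_sub x, h.index_sub x] at h1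
  have hr0 : (Nat.card (invMap (G := G) x x) : ℂ) ≠ 0 := by
    have := h.three_le x
    exact Nat.cast_ne_zero.2 (by omega)
  have h2 : ((Nat.card (invMap (G := G) x x) * ∑ θ ∈ F, Coherence.relDeg K θ ^ 2 + 1 : ℕ) : ℂ) =
      (Nat.card (cA G x) : ℂ) := by
    push_cast
    refine mul_left_cancel₀ hr0 ?_
    linear_combination h1
  exact_mod_cast h2

end CfsgLib.TICentralizers
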