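import Cfsg.Agent.TICentralizers.Frobenius
import Cfsg.Agent.InvCentAbelian.Kernel
import Cfsg.Agent.Indicator.Basic

/-!
# Insoluble groups with T.I. centralisers: counting, the indicator equation, kernels

* `Conf.card_group`, `Conf.invCore`;
* `Conf.nu_mul`: `n r ν(χ) = ∑_A (χ(a²) - χ(a))` for a non-principal irreducible `χ`;
* `Conf.false_of_invol_kernel`: no non-principal irreducible character is trivial on an involution.
-/

set_option autoImplicit false
set_option linter.unusedSectionVars false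
set_option linter.style.haveILetI false

namespace CfsgLib.TICentralizers

open Subgroup CfsgLib.SEmbed CfsgLib.Small CfsgLib.InvCentAbelian CfsgLib.Characters Cfsg

universe u v

variable {G : Type u} [Group G] {Ω : Type v} [MulAction G Ω] [Fintype G] (h : Conf G Ω)

noncomputable local instance fintypeSubStructure (M : Subgroup G) : Fintype M := Fintype.ofFinite M

include h

theorem Conf.card_group (x : Ω) :
    Nat.card G = (Nat.card (cA G x) + 1) * Nat.card (cA G x) * Nat.card (invMap (G := G) x x) := by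
  haveI := h.nontriv
  obtain ⟨y, hy⟩ := exists_ne x
  haveI : MulAction.IsPretransitive G Ω := ⟨h.uf.transitive⟩
  rw [← Subgroup.index_mul_card (MulAction.stabilizer G x),
    MulAction.index_stabilizer_of_transitive G x, h.card_points x, h.card_stabilizer hy.symm,
    mul_assoc]

/-- An element of `cA G x` squaring to one commutes with `cA G x`. -/
theorem Conf.commute_of_sq {x : Ω} {a b : G} (ha : a ∈ cA G x) (ha2 : a * a = 1)
    (hb : b ∈ cA G x) : Commute a b := by
  by_cases ha1 : a = 1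
  · rw [ha1]; exact Commute.one_left b
  · exact (h.commute_of_mem (orderOf_eq_prime (by rw [sq]; exact ha2) ha1) (h.cA_fix ha) hb).symm

/-- The involutions fixing `x`, with the identity. -/
def Conf.invCore (x : Ω) : Subgroup G where
  carrier := {a | a ∈ cA G x ∧ a * a = 1}
  one_mem' := ⟨one_mem _, mul_one 1⟩
  mul_mem' := fun {a b} ha hb => ⟨mul_mem ha.1 hb.1, by
    rw [(h.commute_of_sq hb.1 hb.2 ha.1).mul_mul_mul_comm, ha.2, hb.2, one_mul]⟩
  inv_mem' := fun {a} ha => ⟨inv_mem ha.1, by rw [← mul_inv_rev, ha.2, inv_one]⟩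

theorem Conf.mem_invCore {x : Ω} {a : G} : a ∈ h.invCore x ↔ a ∈ cA G x ∧ a * a = 1 := Iff.rfl

theorem Conf.invCore_le (x : Ω) : h.invCore x ≤ cA G x := fun _ ha => ha.1

theorem Conf.card_invCore (x : Ω) :
    Nat.card (h.invCore x) = Nat.card (invMap (G := G) x x) + 1 := by
  classical
  have hset : (h.invCore x : Set G) = insert 1 (invMap (G := G) x x) := by
    ext a
    refine ⟨fun ha => ?_, ?_⟩
    · by_cases ha1 : a = 1
      · exact Or.inl ha1
      · exact Or.inr ⟨orderOf_eq_prime (by rw [sq]; exact ha.2) ha1, h.cA_fix ha.1⟩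
    · rintro (rfl | ⟨hi, hx⟩)
      · exact one_mem _
      · exact ⟨h.invol_mem hi hx, mul_self_of_orderOf_two hi⟩
  show Nat.card ((h.invCore x : Set G)) = _
  rw [hset, Nat.card_coe_set_eq, Set.ncard_insert_of_notMem ?_ (Set.toFinite _),
    Nat.card_coe_set_eq]
  exact fun h1 => ne_one_of_orderOf_two h1.1 rfl

theorem Conf.invCore_conj {x : Ω} {g a : G} (hg : g • x = x) (ha : a ∈ h.invCore x) :
    g * a * g⁻¹ ∈ h.invCore x :=
  ⟨conj_mem_cA_of_fix hg ha.1, by
    rw [show g * a * g⁻¹ * (g * a * g⁻¹) = g * (a * a) * g⁻¹ by group, ha.2, mul_one,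
      mul_inv_cancel]⟩

/-- An element lying in no `cA` has odd order. -/
theorem Conf.odd_orderOf_outside {g : G} (hg : ∀ y : Ω, g ∈ cA G y → g = 1) :
    Odd (orderOf g) := by
  by_contra hodd
  obtain ⟨k, hk⟩ := (Nat.not_odd_iff_even.1 hodd).two_dvd
  have hi : orderOf (g ^ k) = 2 := by
    have hk0 : k ≠ 0 := fun e => by
      have := orderOf_pos g
      omega
    rw [orderOf_pow' g hk0, Nat.gcd_eq_right (Dvd.intro_left 2 hk.symm), hk,
      Nat.mul_div_cancel _ (Nat.pos_of_ne_zero hk0)]
  obtain ⟨y, hy⟩ := h.uf.exists_fix _ hi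
  have := hg y (h.mem_of_commute hi hy (Commute.pow_right (Commute.refl g) k))
  subst this
  simp at hi

/-- The squaring map only moves the sums over the `cA`'s. -/
theorem Conf.sum_sq_sub {χ : G → ℂ} (hχ : IsClassFunction G χ) (x : Ω) :
    ∑ g : G, (χ (g * g) - χ g) =
      ((Nat.card (cA G x) : ℂ) + 1) * ∑ a : cA G x, (χ ((a : G) * a) - χ a) := by
  classical
  haveI := finite_points h.uf
  haveI := Fintype.ofFinite Ω
  set f : G → ℂ := fun g => χ (g * g) - χ g with hf
  set T : Ω → Finset G := fun y => Finset.univ.filter fun g => g ∈ cA G y ∧ g ≠ 1 with hT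
  set U := (Finset.univ : Finset Ω).biUnion T with hU
  have hW : ∀ g : G, g ∈ Uᶜ ↔ ∀ y : Ω, g ∈ cA G y → g = 1 := fun g => by
    simp [hU, hT]
  have hout : ∑ g ∈ Uᶜ, f g = 0 := by
    rw [hf]
    simp only [Finset.sum_sub_distrib, sub_eq_zero]
    have hmap : ∀ g ∈ Uᶜ, g * g ∈ Uᶜ := by
      intro g hg
      rw [hW] at hg ⊢
      intro y hy
      by_contra hne
      have h1 := hg y (h.centralizer_le hy hne
        (mem_cent.2 ((Commute.refl g).mul_right (Commute.refl g))))
      exact hne (by rw [h1, mul_one])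
    have hroot : ∀ g ∈ Uᶜ, g = (g * g) ^ ((orderOf g + 1) / 2) := by
      intro g hg
      obtain ⟨k, hk⟩ := h.odd_orderOf_outside ((hW g).1 hg)
      rw [← sq, ← pow_mul, show 2 * ((orderOf g + 1) / 2) = orderOf g + 1 by omega, pow_succ,
        pow_orderOf_eq_one, one_mul]
    have hord : ∀ g ∈ Uᶜ, orderOf (g * g) = orderOf g := fun g hg => by
      obtain ⟨k, hk⟩ := h.odd_orderOf_outside ((hW g).1 hg)
      rw [← sq]
      exact Nat.Coprime.orderOf_pow (Nat.coprime_two_right.2 ⟨k, hk⟩)
    have hinj : Set.InjOn (fun g : G => g * g) (Uᶜ : Finset G) := by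
      intro a ha b hb e
      simp only at e
      rw [Finset.mem_coe] at ha hb
      rw [hroot a ha, hroot b hb, e, ← hord a ha, e, hord b hb]
    have himg : (Uᶜ).image (fun g : G => g * g) = Uᶜ :=
      Finset.eq_of_subset_of_card_le (fun g hg => by
        obtain ⟨a, ha, rfl⟩ := Finset.mem_image.1 hg
        exact hmap a ha) (by rw [Finset.card_image_of_injOn hinj])
    conv_rhs => rw [← himg]
    rw [Finset.sum_image hinj]
  have hdisj : ((Finset.univ : Finset Ω) : Set Ω).PairwiseDisjoint T := by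
    intro y _ z _ hyz
    refine Finset.disjoint_left.2 fun g hg hg' => ?_
    simp only [hT, Finset.mem_filter] at hg hg'
    exact hg.2.2 (h.eq_one_of_mem_two hyz hg.2.1 hg'.2.1)
  have hone : f 1 = 0 := by simp [hf]
  have heach : ∀ y : Ω, ∑ g ∈ T y, f g = ∑ a : cA G x, f a := by
    intro y
    obtain ⟨c, rfl⟩ := h.uf.transitive x y
    simp only [hT]
    rw [← Finset.filter_filter, Finset.filter_ne', Finset.sum_erase _ hone,
      Finset.sum_subtype (p := fun g => g ∈ cA G (c • x))
        (Finset.univ.filter fun g => g ∈ cA G (c • x)) (fun g => by simp) f]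
    let e : cA G x ≃ cA G (c • x) :=
      { toFun := fun a => ⟨c * (a : G) * c⁻¹, conj_mem_cA c a.2⟩
        invFun := fun b => ⟨c⁻¹ * (b : G) * c, by simpa using conj_mem_cA c⁻¹ b.2⟩
        left_inv := fun a => Subtype.ext (show c⁻¹ * (c * (a : G) * c⁻¹) * c = a by group)
        right_inv := fun b => Subtype.ext (show c * (c⁻¹ * (b : G) * c) * c⁻¹ = b by group) }
    refine (Fintype.sum_equiv e _ _ fun a => ?_).symm
    show f (a : G) = f (c * (a : G) * c⁻¹)
    simp only [hf]
    rw [show c * (a : G) * c⁻¹ * (c * (a : G) * c⁻¹) = c * ((a : G) * a) * c⁻¹ by group, hχ, hχ]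
  show ∑ g : G, f g = _
  rw [← Finset.sum_add_sum_compl U f, hout, add_zero, hU, Finset.sum_biUnion hdisj,
    Finset.sum_congr rfl fun y _ => heach y, Finset.sum_const, Finset.card_univ,
    ← Nat.card_eq_fintype_card, h.card_points x, nsmul_eq_mul, Nat.cast_add, Nat.cast_one]

/-- The indicator equation. -/
theorem Conf.nu_mul {χ : G → ℂ} (hχ : IsIrrCharacter G χ) (hne : χ ≠ fun _ => 1) (x : Ω) :
    (Nat.card (cA G x) : ℂ) * Nat.card (invMap (G := G) x x) * FSIndicator.nu χ =
      ∑ a : cA G x, (χ ((a : G) * a) - χ a) := by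
  have h1 := h.sum_sq_sub (isClassFunction_of_isIrr hχ) x
  have h0 := classInner_isIrr_ne hχ isIrr_one hne
  rw [classInner, mul_eq_zero] at h0
  have h0' := h0.resolve_left (inv_ne_zero natCard_ne_zero)
  simp only [map_one, mul_one] at h0'
  rw [Finset.sum_sub_distrib, h0', sub_zero] at h1
  have hn : ((Nat.card (cA G x) : ℂ) + 1) ≠ 0 := by exact_mod_cast Nat.succ_ne_zero (Nat.card (cA G x))
  refine mul_left_cancel₀ hn ?_
  rw [← h1, FSIndicator.nu, h.card_group x, Nat.cast_mul, Nat.cast_mul, Nat.cast_add, Nat.cast_one]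
  have hr : (Nat.card (invMap (G := G) x x) : ℂ) ≠ 0 := by
    have := h.three_le x
    exact_mod_cast (by omega : Nat.card (invMap (G := G) x x) ≠ 0)
  have hA : (Nat.card (cA G x) : ℂ) ≠ 0 := natCard_ne_zero
  field_simp

/-- A non-principal irreducible character is not trivial on an involution. -/
theorem Conf.false_of_invol_kernel {χ : G → ℂ} (hχ : IsIrrCharacter G χ) (hne : χ ≠ fun _ => 1)
    {i : G} (hi : orderOf i = 2) (heq : χ i = χ 1) : False := by
  classical
  haveI := h.nontriv
  obtain ⟨M, hMn, hM⟩ := exists_kernel (isCharacter_of_isIrr hχ)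
  have hinvol : ∀ j : G, orderOf j = 2 → j ∈ M := by
    intro j hj
    obtain ⟨c, rfl⟩ := isConj_iff.1 (isConj_invol h.uf hi hj)
    exact hMn.conj_mem i ((hM i).2 heq) c
  obtain ⟨x, y, hxy⟩ := exists_pair_ne Ω
  obtain ⟨v, hv⟩ := h.exists_swap hxy
  have hD : ∀ d ∈ pairStab G x y, d ∈ M := by
    intro d hd
    have ho : orderOf (v * d) = 2 := by
      refine orderOf_eq_prime ?_ fun e => hxy ?_
      · have e := h.swap_inverts hxy hv hd
        rw [inv_eq_self_of_orderOf_two hv.1] at e
        rw [sq, show v * d * (v * d) = v * d * v * d by group, e, inv_mul_cancel]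
      · calc x = (v * d) • x := by rw [e, one_smul]
          _ = y := by rw [mul_smul, (mem_pairStab.1 hd).1, hv.2]
    have := mul_mem (inv_mem (hinvol v hv.1)) (hinvol _ ho)
    rwa [inv_mul_cancel_left] at this
  have hA : cA G x ≤ M := by
    obtain ⟨d, hd, hd1⟩ := h.exists_ne_one hxy
    have hdx := (mem_pairStab.1 hd).1
    let f : cA G x → cA G x := fun a => ⟨(a : G) * (d * (a : G)⁻¹ * d⁻¹),
      mul_mem a.2 (conj_mem_cA_of_fix hdx (inv_mem a.2))⟩
    have hf : Function.Surjective f := Finite.injective_iff_surjective.1 fun a b e => by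
      have e' : (a : G) * (d * (a : G)⁻¹ * d⁻¹) = (b : G) * (d * (b : G)⁻¹ * d⁻¹) :=
        congrArg Subtype.val e
      by_contra hab
      refine hd1 (h.mem_inf_eq_one hxy (h.centralizer_le (mul_mem (inv_mem b.2) a.2)
        (fun e1 => hab (Subtype.ext (inv_mul_eq_one.1 e1).symm)) (mem_cent.2 ?_)) hd)
      show d * ((b : G)⁻¹ * a) = (b : G)⁻¹ * a * d
      calc d * ((b : G)⁻¹ * a) = (b : G)⁻¹ * ((b : G) * (d * (b : G)⁻¹ * d⁻¹)) * d * a := by group
        _ = (b : G)⁻¹ * a * d := by rw [← e']; group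
    intro c hc
    obtain ⟨a, ha⟩ := hf ⟨c, hc⟩
    rw [← show (a : G) * (d * (a : G)⁻¹ * d⁻¹) = c from congrArg Subtype.val ha,
      show (a : G) * (d * (a : G)⁻¹ * d⁻¹) = (a : G) * d * (a : G)⁻¹ * d⁻¹ by group]
    exact mul_mem (hMn.conj_mem d (hD d hd) a) (inv_mem (hD d hd))
  have hall : ∀ g : G, χ g = χ 1 := by
    intro g
    refine (hM g).1 ?_
    have hst : ∀ g : G, g • x = x → g ∈ M := by
      intro g hg
      obtain ⟨d, hd, hm⟩ := h.exists_decomp hxy hg
      simpa using mul_mem (hA hm) (hD d hd)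
    by_cases hgx : g • x = x
    · exact hst g hgx
    · obtain ⟨w, hw⟩ := h.exists_swap (Ne.symm hgx)
      have h2 : w * g ∈ M := hst _ (by rw [mul_smul, smul_back hw.1 hw.2])
      simpa using mul_mem (inv_mem (hinvol w hw.1)) h2
  have h0 := classInner_isIrr_ne hχ isIrr_one hne
  rw [classInner, mul_eq_zero] at h0
  have h0' := h0.resolve_left (inv_ne_zero natCard_ne_zero)
  simp only [map_one, mul_one, hall, Finset.sum_const, nsmul_eq_mul, mul_eq_zero] at h0'
  rcases h0' with h0' | h0'
  · exact Fintype.card_ne_zero (α := G) (by exact_mod_cast h0')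
  · exact irr_one_ne_zero hχ h0'

end CfsgLib.TICentralizers
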