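import Cfsg.Agent.TICentralizers.Local

/-!
# Insoluble groups with T.I. centralisers: structure of a non-abelian 2-group kernel

The kernel has exponent four and order `q ^ 3`, its squares and commutators are the involutions.
-/

set_option autoImplicit false
set_option linter.unusedSectionVars false
set_option linter.style.haveILetI false

namespace CfsgLib.TICentralizers

open Subgroup CfsgLib.SEmbed CfsgLib.Small CfsgLib.InvCentAbelian

universe u v

variable {G : Type u} [Group G] {Ω : Type v} [MulAction G Ω] [Fintype G] (h : Conf G Ω)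

noncomputable local instance fintypeSubTwoStructure (M : Subgroup G) : Fintype M := Fintype.ofFinite M

include h

/-- The stabiliser of a point normalises the centraliser of each element of its `cA`. -/
theorem Conf.mem_normalizer_centralizer {x : Ω} {u g : G} (hu : u ∈ cA G x) (hg : g • x = x) :
    g ∈ normalizer (centralizer ({u} : Set G) : Set G) := by
  obtain ⟨i, hi, hx⟩ := h.exists_inv x
  have hix : i ∈ cA G x := h.invol_mem hi hx
  refine h.ti.mem_normalizer (mem_cent.2 (h.commute_of_mem hi hx hu).symm)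
    (ne_one_of_orderOf_two hi) (mem_cent.2 (h.commute_of_mem (i := g * i * g⁻¹)
      (by rw [orderOf_conj_eq, hi]) ?_ hu).symm)
  rw [mul_smul, mul_smul, inv_smul_eq_iff.2 hg.symm, hx, hg]

theorem Conf.commute_conj {x : Ω} {u g c : G} (hu : u ∈ cA G x) (hg : g • x = x)
    (hc : Commute c u) : Commute (g * u * g⁻¹) c := by
  have h1 := (mem_normalizer_iff''.1 (h.mem_normalizer_centralizer hu hg) c).1 (mem_cent.2 hc)
  have h2 := (mem_cent.1 h1).map (MulAut.conj g).toMonoidHom
  simpa [mul_assoc] using h2.symm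

/-- The centre of `cA G x`. -/
def Conf.centre (_h : Conf G Ω) (x : Ω) : Subgroup G := cA G x ⊓ centralizer (cA G x : Set G)

theorem Conf.mem_centre {x : Ω} {a : G} :
    a ∈ h.centre x ↔ a ∈ cA G x ∧ ∀ b ∈ cA G x, Commute b a := by
  rw [Conf.centre, mem_inf]
  exact and_congr_right fun _ => Iff.rfl

theorem Conf.invCore_le_centre (x : Ω) : h.invCore x ≤ h.centre x := fun _ ha =>
  h.mem_centre.2 ⟨ha.1, fun _ hb => (h.commute_of_sq ha.1 ha.2 hb).symm⟩

theorem Conf.centre_conj {x : Ω} {g a : G} (hg : g • x = x) (ha : a ∈ h.centre x) :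
    g * a * g⁻¹ ∈ h.centre x := by
  obtain ⟨ha1, ha2⟩ := h.mem_centre.1 ha
  refine h.mem_centre.2 ⟨conj_mem_cA_of_fix hg ha1, fun b hb => ?_⟩
  have h1 := (ha2 (g⁻¹ * b * g) (by
    simpa using conj_mem_cA_of_fix (g := g⁻¹) (inv_smul_eq_iff.2 hg.symm) hb)).map
    (MulAut.conj g).toMonoidHom
  simpa [mul_assoc] using h1

/-- Two involutions of `cA G x` are conjugate by a two point stabiliser. -/
theorem Conf.exists_conj_invol {x y : Ω} (hxy : x ≠ y) {a b : G} (ha : a ∈ h.invCore x)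
    (ha1 : a ≠ 1) (hb : b ∈ h.invCore x) (hb1 : b ≠ 1) :
    ∃ d ∈ pairStab G x y, d * a * d⁻¹ = b :=
  exists_conj_fix h.uf hxy
    ⟨orderOf_eq_prime (by rw [sq]; exact ha.2) ha1, h.cA_fix ha.1⟩
    ⟨orderOf_eq_prime (by rw [sq]; exact hb.2) hb1, h.cA_fix hb.1⟩

/-- An element of a two point stabiliser fixing an element of `cA G x` is trivial. -/
theorem Conf.eq_one_of_commute_pairStab {x y : Ω} (hxy : x ≠ y) {a d : G} (ha : a ∈ cA G x)
    (ha1 : a ≠ 1) (hd : d ∈ pairStab G x y) (hc : Commute d a) : d = 1 :=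
  h.mem_inf_eq_one hxy (h.centralizer_le ha ha1 (mem_cent.2 hc)) hd

variable {x : Ω} (hp : IsPGroup 2 (cA G x)) (hnab : ¬ ∀ a ∈ cA G x, ∀ b ∈ cA G x, a * b = b * a)
include hp hnab

omit hnab in
theorem Conf.exists_pow_two_pow {a : G} (ha : a ∈ cA G x) : ∃ j : ℕ, a ^ 2 ^ j = 1 := by
  obtain ⟨j, hj⟩ := hp ⟨a, ha⟩
  exact ⟨j, congrArg Subtype.val hj⟩

set_option maxHeartbeats 1000000 in
/-- Central elements of the kernel square to one. -/
theorem Conf.centre_sq {w : G} (hw : w ∈ h.centre x) : w * w = 1 := by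
  classical
  by_contra hne
  haveI := h.nontriv
  obtain ⟨y, hyx⟩ := exists_ne x
  have hxy : x ≠ y := hyx.symm
  -- an element of order four
  obtain ⟨w₄, hw₄, hw₄2, hw₄4⟩ : ∃ c ∈ h.centre x, c * c ≠ 1 ∧ c * c ∈ h.invCore x := by
    have hex : ∃ m : ℕ, w ^ 2 ^ m = 1 := h.exists_pow_two_pow hp (h.mem_centre.1 hw).1
    set m := Nat.find hex with hm
    have hm1 : w ^ 2 ^ m = 1 := Nat.find_spec hex
    have hm2 : 2 ≤ m := by
      by_contra hlt
      push Not at hlt
      interval_cases m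
      · rw [pow_zero, pow_one] at hm1; exact hne (by rw [hm1, mul_one])
      · rw [pow_one, sq] at hm1; exact hne hm1
    obtain ⟨j, hj⟩ : ∃ j, m = j + 2 := ⟨m - 2, by omega⟩
    refine ⟨w ^ 2 ^ j, pow_mem hw _, ?_, ?_⟩
    · rw [← pow_add, ← mul_two, ← pow_succ]
      exact Nat.find_min hex (by omega)
    · refine ⟨mul_mem (pow_mem (h.mem_centre.1 hw).1 _) (pow_mem (h.mem_centre.1 hw).1 _), ?_⟩
      rw [← pow_add, ← mul_two, ← pow_succ, ← pow_add, ← mul_two, ← pow_succ]
      rwa [hj] at hm1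
  have hlow : ∀ a ∈ cA G x, a * a * (a * a) = 1 → a ∈ h.centre x := by
    intro a ha ha4
    by_cases ha2 : a * a = 1
    · exact h.invCore_le_centre x ⟨ha, ha2⟩
    obtain ⟨d, hd, hde⟩ := h.exists_conj_invol hxy hw₄4 hw₄2 (b := a * a)
      ⟨mul_mem ha ha, ha4⟩ ha2
    have hc : d * w₄ * d⁻¹ ∈ h.centre x := h.centre_conj (mem_pairStab.1 hd).1 hw₄
    have h1 : a * (d * w₄ * d⁻¹)⁻¹ ∈ h.invCore x := by
      refine ⟨mul_mem ha (inv_mem (h.mem_centre.1 hc).1), ?_⟩
      rw [((h.mem_centre.1 hc).2 a ha).symm.inv_left.mul_mul_mul_comm, hde.symm]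
      group
    have h2 := mul_mem (h.invCore_le_centre x h1) hc
    rwa [inv_mul_cancel_right] at h2
  -- noncentral elements with central square
  have hM : ∀ a ∈ cA G x, a ∉ h.centre x →
      ∃ k : ℕ, a ^ k ∉ h.centre x ∧ a ^ k * a ^ k ∈ h.centre x := by
    intro a ha hna
    have hex : ∃ m : ℕ, a ^ 2 ^ m ∈ h.centre x := by
      obtain ⟨m, hm⟩ := h.exists_pow_two_pow hp ha
      exact ⟨m, hm.symm ▸ one_mem _⟩
    have hm1 := Nat.find_spec hex
    obtain ⟨j, hj⟩ : ∃ j, Nat.find hex = j + 1 := by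
      refine ⟨Nat.find hex - 1, ?_⟩
      have : Nat.find hex ≠ 0 := fun e => hna (by rw [e, pow_zero, pow_one] at hm1; exact hm1)
      omega
    exact ⟨2 ^ j, Nat.find_min hex (by omega), by
      rw [← pow_add, ← mul_two, ← pow_succ, ← hj]; exact hm1⟩
  -- squares of the centre
  set Z := h.centre x with hZ
  have hZcomm : ∀ a ∈ Z, ∀ b ∈ Z, Commute a b := fun a ha b hb =>
    (h.mem_centre.1 hb).2 a (h.mem_centre.1 ha).1
  let sqh : Z →* Z :=
    { toFun := fun a => a * a
      map_one' := mul_one 1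
      map_mul' := fun a b => Subtype.ext (by
        show (a : G) * b * ((a : G) * b) = (a : G) * a * ((b : G) * b)
        exact (hZcomm b b.2 a a.2).mul_mul_mul_comm _ _) }
  haveI hSqn : sqh.range.Normal := ⟨fun a ha b => by
    rwa [show b * a * b⁻¹ = a from Subtype.ext (by
      show (b : G) * a * (b : G)⁻¹ = a
      rw [(hZcomm b b.2 a a.2).eq, mul_inv_cancel_right])]⟩
  have hcardQ : Nat.card (Z ⧸ sqh.range) = Nat.card (invMap (G := G) x x) + 1 := by
    have hker : Nat.card sqh.ker = Nat.card (h.invCore x) :=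
      Nat.card_congr
        { toFun := fun a => ⟨((a : Z) : G), (h.mem_centre.1 (a : Z).2).1,
            congrArg Subtype.val a.2⟩
          invFun := fun a => ⟨⟨(a : G), h.invCore_le_centre x a.2⟩, Subtype.ext a.2.2⟩
          left_inv := fun _ => rfl
          right_inv := fun _ => rfl }
    rw [← h.card_invCore x, ← hker]
    have h1 := sqh.ker.card_mul_index
    rw [Subgroup.index_ker, ← sqh.range.index_mul_card] at h1
    exact (Nat.eq_of_mul_eq_mul_right Nat.card_pos h1).symm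
  have hnsq : ∀ a ∈ cA G x, a ∉ Z → ∀ c ∈ Z, a * a ≠ c * c := by
    intro a ha hna c hc e
    refine hna ?_
    have h1 : a * c⁻¹ ∈ h.invCore x := by
      refine ⟨mul_mem ha (inv_mem (h.mem_centre.1 hc).1), ?_⟩
      rw [((h.mem_centre.1 hc).2 a ha).symm.inv_left.mul_mul_mul_comm, e]
      group
    have h2 := mul_mem (h.invCore_le_centre x h1) hc
    rwa [inv_mul_cancel_right] at h2
  have htr : ∀ w₁ w₂ : Z, w₁ ∉ sqh.range → w₂ ∉ sqh.range →
      ∃ d ∈ pairStab G x y, ∃ c : Z, (w₂ : G) = d * (w₁ : G) * d⁻¹ * ((c : G) * c) := by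
    intro w₁ w₂ hw₁ hw₂
    let f : pairStab G x y → Z := fun d =>
      ⟨(d : G) * w₁ * (d : G)⁻¹, h.centre_conj (mem_pairStab.1 d.2).1 w₁.2⟩
    have hinj : Function.Injective fun d => QuotientGroup.mk' sqh.range (f d) := by
      intro d e he
      by_contra hde
      set g : G := (e : G)⁻¹ * d with hg
      have hgD : g ∈ pairStab G x y := mul_mem (inv_mem e.2) d.2
      have hgx : g • x = x := (mem_pairStab.1 hgD).1
      have hg1 : g ≠ 1 := fun e1 => hde (Subtype.ext (inv_mul_eq_one.1 e1).symm)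
      let ψ : Z → Z := fun a =>
        ⟨(a : G)⁻¹ * (g * a * g⁻¹), mul_mem (inv_mem a.2) (h.centre_conj hgx a.2)⟩
      have hψi : Function.Injective ψ := by
        intro a b hab
        have hab' : (a : G)⁻¹ * (g * a * g⁻¹) = (b : G)⁻¹ * (g * b * g⁻¹) :=
          congrArg Subtype.val hab
        by_contra hne'
        refine hg1 (h.eq_one_of_commute_pairStab hxy (a := (b : G) * (a : G)⁻¹)
          (mul_mem (h.mem_centre.1 b.2).1 (inv_mem (h.mem_centre.1 a.2).1))
          (fun e1 => hne' (Subtype.ext (mul_inv_eq_one.1 e1).symm)) hgD ?_)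
        show g * ((b : G) * (a : G)⁻¹) = (b : G) * (a : G)⁻¹ * g
        calc g * ((b : G) * (a : G)⁻¹) = (b : G) * ((b : G)⁻¹ * (g * b * g⁻¹)) * g * (a : G)⁻¹ := by
              group
          _ = (b : G) * (a : G)⁻¹ * g := by rw [← hab']; group
      have hψs : ∀ a ∈ sqh.range, ψ a ∈ sqh.range := by
        rintro _ ⟨b, rfl⟩
        refine ⟨ψ b, Subtype.ext ?_⟩
        have hb1 : ((b : G)⁻¹) ∈ Z := inv_mem b.2
        show (b : G)⁻¹ * (g * b * g⁻¹) * ((b : G)⁻¹ * (g * b * g⁻¹)) =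
          ((b : G) * b)⁻¹ * (g * ((b : G) * b) * g⁻¹)
        rw [(hZcomm (g * b * g⁻¹) (h.centre_conj hgx b.2) _ hb1).mul_mul_mul_comm]
        group
      have hsurj : Function.Surjective fun a : sqh.range => (⟨ψ a, hψs a a.2⟩ : sqh.range) :=
        Finite.injective_iff_surjective.1 fun a b hab =>
          Subtype.ext (hψi (congrArg Subtype.val hab))
      have h1 : (f e)⁻¹ * f d ∈ sqh.range := by
        rw [← QuotientGroup.eq_one_iff, QuotientGroup.mk_mul, QuotientGroup.mk_inv, inv_mul_eq_one]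
        exact he.symm
      -- conjugate back by `e`
      obtain ⟨s, hs⟩ := h1
      have hexz : ((e : G)⁻¹) • x = x := inv_smul_eq_iff.2 (mem_pairStab.1 e.2).1.symm
      have h2 : ψ w₁ ∈ sqh.range := by
        refine ⟨⟨(e : G)⁻¹ * s * e, by simpa using h.centre_conj hexz s.2⟩, Subtype.ext ?_⟩
        have hs' : (s : G) * s = ((e : G) * w₁ * (e : G)⁻¹)⁻¹ * ((d : G) * w₁ * (d : G)⁻¹) :=
          congrArg Subtype.val hs
        show (e : G)⁻¹ * s * e * ((e : G)⁻¹ * s * e) = (w₁ : G)⁻¹ * (g * w₁ * g⁻¹)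
        rw [show (e : G)⁻¹ * s * e * ((e : G)⁻¹ * s * e) = (e : G)⁻¹ * ((s : G) * s) * e by group,
          hs', hg]
        group
      obtain ⟨a, ha⟩ := hsurj ⟨_, h2⟩
      exact hw₁ (hψi (congrArg Subtype.val ha) ▸ a.2)
    have hne1 : ∀ d, QuotientGroup.mk' sqh.range (f d) ≠ 1 := by
      intro d he
      rw [QuotientGroup.mk'_apply, QuotientGroup.eq_one_iff] at he
      obtain ⟨s, hs⟩ := he
      refine hw₁ ⟨⟨(d : G)⁻¹ * s * d, by
        simpa using h.centre_conj (inv_smul_eq_iff.2 (mem_pairStab.1 d.2).1.symm) s.2⟩,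
        Subtype.ext ?_⟩
      have hs' : (s : G) * s = (d : G) * w₁ * (d : G)⁻¹ := congrArg Subtype.val hs
      show (d : G)⁻¹ * s * d * ((d : G)⁻¹ * s * d) = (w₁ : G)
      rw [show (d : G)⁻¹ * s * d * ((d : G)⁻¹ * s * d) = (d : G)⁻¹ * ((s : G) * s) * d by group,
        hs']
      group
    haveI : Fintype (Z ⧸ sqh.range) := Fintype.ofFinite _
    have heq : (Finset.univ : Finset (pairStab G x y)).image
        (fun d => QuotientGroup.mk' sqh.range (f d)) = Finset.univ.erase 1 := by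
      refine Finset.eq_of_subset_of_card_le (fun q hq => ?_) ?_
      · obtain ⟨d, -, rfl⟩ := Finset.mem_image.1 hq
        exact Finset.mem_erase.2 ⟨hne1 d, Finset.mem_univ _⟩
      · rw [Finset.card_image_of_injective _ hinj, Finset.card_erase_of_mem (Finset.mem_univ _),
          Finset.card_univ, Finset.card_univ, ← Nat.card_eq_fintype_card,
          ← Nat.card_eq_fintype_card, hcardQ, h.card_pairStab hxy]
        omega
    have hw₂' : QuotientGroup.mk' sqh.range w₂ ∈ Finset.univ.erase 1 :=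
      Finset.mem_erase.2 ⟨fun e => hw₂ ((QuotientGroup.eq_one_iff w₂).1 e), Finset.mem_univ _⟩
    rw [← heq] at hw₂'
    obtain ⟨d, -, hd⟩ := Finset.mem_image.1 hw₂'
    obtain ⟨c, hc⟩ := QuotientGroup.eq.1 hd
    refine ⟨d, d.2, c, ?_⟩
    have hc' : (c : G) * c = ((d : G) * w₁ * (d : G)⁻¹)⁻¹ * w₂ := congrArg Subtype.val hc
    rw [hc', mul_inv_cancel_left]
  -- every such element is central
  obtain ⟨a₀, ha₀, b₀, hb₀, hab₀⟩ : ∃ a ∈ cA G x, ∃ b ∈ cA G x, a * b ≠ b * a := by
    by_contra hcon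
    push Not at hcon
    exact hnab hcon
  have hna₀ : a₀ ∉ Z := fun hz => hab₀ ((h.mem_centre.1 hz).2 b₀ hb₀).eq.symm
  obtain ⟨k, hk1, hk2⟩ := hM a₀ ha₀ hna₀
  set u := a₀ ^ k with hu
  have huA : u ∈ cA G x := pow_mem ha₀ k
  refine hk1 (h.mem_centre.2 ⟨huA, fun z hzA => ?_⟩)
  by_cases hz : z ∈ Z
  · exact ((h.mem_centre.1 hz).2 u huA).symm
  obtain ⟨l, hl1, hl2⟩ := hM z hzA hz
  have hrange : ∀ a : G, a ∈ cA G x → a ∉ Z → ∀ ha2 : a * a ∈ Z,
      (⟨a * a, ha2⟩ : Z) ∉ sqh.range := by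
    rintro a ha hna ha2 ⟨c, hc⟩
    exact hnsq a ha hna c c.2 (congrArg Subtype.val hc).symm
  obtain ⟨d, hd, c, hc⟩ := htr ⟨_, hl2⟩ ⟨_, hk2⟩ (hrange _ (pow_mem hzA l) hl1 hl2)
    (hrange _ huA hk1 hk2)
  have hdx := (mem_pairStab.1 hd).1
  set z' := d * z ^ l * d⁻¹ with hz'
  have hz'A : z' ∈ cA G x := conj_mem_cA_of_fix hdx (pow_mem hzA l)
  set v := z' * (c : G) with hv
  have hcc : Commute z' (c : G) := (h.mem_centre.1 c.2).2 z' hz'A
  have hvsq : u * u = v * v := by
    rw [hv, hcc.symm.mul_mul_mul_comm]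
    exact hc.trans (by simp only [hz']; group)
  have hvA : v ∈ cA G x := mul_mem hz'A (h.mem_centre.1 c.2).1
  -- `u * v⁻¹` has order dividing four
  set k' := u * v * u⁻¹ * v⁻¹ with hk'
  have hk'v : Commute k' v := (h.conj_commute hvA huA).mul_left (Commute.refl v).inv_left
  have hk'u : Commute k' u := by
    have h1 : Commute (v * u⁻¹ * v⁻¹) u⁻¹ := h.conj_commute (inv_mem huA) hvA
    rw [hk', show u * v * u⁻¹ * v⁻¹ = u * (v * u⁻¹ * v⁻¹) by group]
    exact (Commute.refl u).mul_left (by simpa using h1.inv_right)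
  have hk'A : k' ∈ cA G x := mul_mem (mul_mem (mul_mem huA hvA) (inv_mem huA)) (inv_mem hvA)
  have hk'2 : k' * k' = 1 := by
    have h1 : u * u * v = v * (u * u) := ((h.mem_centre.1 hk2).2 v hvA).eq.symm
    calc k' * k' = k' * (u * v * u⁻¹ * v⁻¹) := by rw [← hk']
      _ = u * k' * (v * u⁻¹ * v⁻¹) := by rw [← hk'u.eq]; group
      _ = u * u * v * (u * u)⁻¹ * v⁻¹ := by rw [hk']; group
      _ = 1 := by rw [h1]; group
  have hk'Z : k' ∈ h.centre x := h.invCore_le_centre x ⟨hk'A, hk'2⟩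
  set t := u * v⁻¹ with ht
  have ht2 : t * t = k'⁻¹ := by
    have hv2 : (v * v)⁻¹ * (u * u) = 1 := by rw [hvsq, inv_mul_cancel]
    have huv : v⁻¹ * u = k'⁻¹ * (u * v⁻¹) := by
      have h1 : u * v = k' * (v * u) := by rw [hk']; group
      calc v⁻¹ * u = v⁻¹ * (u * v) * v⁻¹ := by group
        _ = v⁻¹ * k' * v * u * v⁻¹ := by rw [h1]; group
        _ = k' * (u * v⁻¹) := by rw [← hk'v.inv_right.eq]; group
        _ = k'⁻¹ * (u * v⁻¹) := by rw [inv_eq_of_mul_eq_one_right hk'2]
    calc t * t = u * (v⁻¹ * u) * v⁻¹ := by rw [ht]; group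
      _ = u * k'⁻¹ * (u * v⁻¹) * v⁻¹ := by rw [huv]; group
      _ = k'⁻¹ * u * u * (v * v)⁻¹ := by rw [← hk'u.inv_left.eq]; group
      _ = k'⁻¹ := by rw [mul_assoc k'⁻¹, hvsq, mul_inv_cancel_right]
  have htZ : t ∈ h.centre x := hlow t (mul_mem huA (inv_mem hvA)) (by
    rw [ht2, inv_eq_of_mul_eq_one_right hk'2, hk'2])
  have hu' : u = t * c * (d * z * d⁻¹) ^ l := by
    rw [conj_pow, ← hz', ht, hv]
    calc u = u * (z' * (c : G))⁻¹ * ((z' : G) * c) := by group
      _ = u * (z' * (c : G))⁻¹ * (c * z') := by rw [hcc.eq]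
      _ = u * (z' * (c : G))⁻¹ * c * z' := by group
  rw [hu']
  exact (((h.mem_centre.1 htZ).2 z hzA).mul_right ((h.mem_centre.1 c.2).2 z hzA)).mul_right
    ((h.commute_conj hzA hdx (Commute.refl z)).symm.pow_right l)

theorem Conf.mem_centre_iff {a : G} : a ∈ h.centre x ↔ a ∈ h.invCore x :=
  ⟨fun ha => ⟨(h.mem_centre.1 ha).1, h.centre_sq hp hnab ha⟩, fun ha => h.invCore_le_centre x ha⟩

/-- The elements of order at most four commuting with one of order four. -/
theorem Conf.commute_low {y : Ω} (hxy : x ≠ y) {u v : G} (hu : u ∈ cA G x)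
    (hu4 : u * u * (u * u) = 1) (hu2 : u * u ≠ 1) (hv : v ∈ cA G x) (hv4 : v * v * (v * v) = 1)
    (hc : Commute v u) :
    v ∈ h.invCore x ∨ ∃ d ∈ pairStab G x y, v * (d * u * d⁻¹)⁻¹ ∈ h.invCore x := by
  by_cases hv2 : v * v = 1
  · exact Or.inl ⟨hv, hv2⟩
  obtain ⟨d, hd, hde⟩ := h.exists_conj_invol hxy (a := u * u) ⟨mul_mem hu hu, hu4⟩ hu2
    (b := v * v) ⟨mul_mem hv hv, hv4⟩ hv2
  have hdx := (mem_pairStab.1 hd).1
  refine Or.inr ⟨d, hd, mul_mem hv (inv_mem (conj_mem_cA_of_fix hdx hu)), ?_⟩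
  rw [((h.commute_conj hu hdx hc).inv_left).mul_mul_mul_comm, ← hde]
  group

/-- The kernel has exponent four. -/
theorem Conf.sq_mem_invCore {a : G} (ha : a ∈ cA G x) : a * a ∈ h.invCore x := by
  classical
  by_contra hne
  haveI := h.nontriv
  obtain ⟨y, hyx⟩ := exists_ne x
  have hex : ∃ m : ℕ, a ^ 2 ^ m = 1 := h.exists_pow_two_pow hp ha
  set m := Nat.find hex with hm
  have hm1 : a ^ 2 ^ m = 1 := Nat.find_spec hex
  have hm3 : 3 ≤ m := by
    by_contra hlt
    push Not at hlt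
    refine hne ⟨mul_mem ha ha, ?_⟩
    obtain ⟨j, hj⟩ := pow_dvd_pow 2 (show m ≤ 2 by omega)
    rw [show a * a * (a * a) = a ^ 2 ^ 2 by rw [← sq, ← sq, ← pow_mul]; norm_num, hj, pow_mul,
      hm1, one_pow]
  obtain ⟨j, hj⟩ : ∃ j, m = j + 3 := ⟨m - 3, by omega⟩
  set b := a ^ 2 ^ j with hb
  have hbA : b ∈ cA G x := pow_mem ha _
  set w := b * b with hw
  have hwA : w ∈ cA G x := mul_mem hbA hbA
  have hw4 : w * w * (w * w) = 1 := by
    rw [hw, hb, ← pow_add, ← mul_two, ← pow_succ, ← pow_add, ← mul_two, ← pow_succ, ← pow_add,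
      ← mul_two, ← pow_succ]
    rwa [hj] at hm1
  have hw2 : w * w ≠ 1 := by
    rw [hw, hb, ← pow_add, ← mul_two, ← pow_succ, ← pow_add, ← mul_two, ← pow_succ]
    exact Nat.find_min hex (by omega)
  refine hw2 (h.centre_sq hp hnab (h.mem_centre.2 ⟨hwA, fun g hg => ?_⟩))
  set c := g * b * g⁻¹ * b⁻¹ with hc
  have hcA : c ∈ cA G x := mul_mem (mul_mem (mul_mem hg hbA) (inv_mem hg)) (inv_mem hbA)
  have hcb : Commute c b := (h.conj_commute hbA hg).mul_left (Commute.refl b).inv_left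
  have hcg : Commute c g := by
    rw [hc, show g * b * g⁻¹ * b⁻¹ = g * (b * g⁻¹ * b⁻¹) by group]
    exact (Commute.refl g).mul_left (by simpa using (h.conj_commute (inv_mem hg) hbA).inv_right)
  have hconj : g * w * g⁻¹ = c * c * w := by
    rw [hw, show g * (b * b) * g⁻¹ = g * b * g⁻¹ * (g * b * g⁻¹) by group,
      show g * b * g⁻¹ = c * b by rw [hc]; group, hcb.symm.mul_mul_mul_comm]
  have hcw : Commute c w := hcb.mul_right hcb
  have hww : w * w ∈ h.centre x := h.invCore_le_centre x ⟨mul_mem hwA hwA, hw4⟩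
  have hc4 : c * c * (c * c) = 1 := by
    have h1 : g * (w * w) * g⁻¹ = w * w := by
      rw [((h.mem_centre.1 hww).2 g hg).eq, mul_inv_cancel_right]
    rw [show g * (w * w) * g⁻¹ = g * w * g⁻¹ * (g * w * g⁻¹) by group, hconj,
      ((hcw.symm.mul_right hcw.symm)).mul_mul_mul_comm, mul_eq_right] at h1
    exact h1
  rcases h.commute_low hp hnab hyx.symm hwA hw4 hw2 hcA hc4 hcw with hcI | ⟨d, hd, hz⟩
  · rw [hcI.2, one_mul, mul_inv_eq_iff_eq_mul] at hconj
    exact hconj
  · have hdx := (mem_pairStab.1 hd).1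
    set z := c * (d * w * d⁻¹)⁻¹ with hzdef
    have hgz : Commute g z := (h.mem_centre.1 (h.invCore_le_centre x hz)).2 g hg
    have hg' : Commute g (d * w * d⁻¹) := by
      rw [show d * w * d⁻¹ = z⁻¹ * c by rw [hzdef]; group]
      exact hgz.inv_right.mul_right hcg.symm
    have h2 := hg'.map (MulAut.conj d⁻¹).toMonoidHom
    have h3 : d⁻¹ * g * d ∈ centralizer ({w} : Set G) := mem_cent.2 (by
      simpa [mul_assoc] using h2)
    exact mem_cent.1 ((mem_normalizer_iff''.1 (h.mem_normalizer_centralizer hwA hdx) g).2 h3)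

/-- The orders, the centralisers and the classes in the kernel. -/
theorem Conf.twoGroup_structure :
    Nat.card (cA G x) = (Nat.card (invMap (G := G) x x) + 1) ^ 3 ∧
      ∀ u ∈ cA G x, u ∉ h.invCore x →
        Nat.card (centralizer ({u} : Set G)) = (Nat.card (invMap (G := G) x x) + 1) ^ 2 ∧
          ∀ z ∈ h.invCore x, ∃ g ∈ cA G x, g * u * g⁻¹ = z * u := by
  classical
  haveI := h.nontriv
  obtain ⟨y, hyx⟩ := exists_ne x
  have hxy : x ≠ y := hyx.symm
  set r := Nat.card (invMap (G := G) x x) with hr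
  have hr3 : 3 ≤ r := h.three_le x
  have h4 : ∀ a ∈ cA G x, a * a * (a * a) = 1 := fun a ha => (h.sq_mem_invCore hp hnab ha).2
  have key : ∀ u ∈ cA G x, u ∉ h.invCore x →
      Nat.card (centralizer ({u} : Set G)) = (r + 1) ^ 2 ∧
      Nat.card (cA G x) = (r + 1) ^ 3 ∧
        ∀ z ∈ h.invCore x, ∃ g ∈ cA G x, g * u * g⁻¹ = z * u := by
    intro u hu hnu
    have hu1 : u ≠ 1 := fun e => hnu (e ▸ one_mem _)
    have hu2 : u * u ≠ 1 := fun e => hnu ⟨hu, e⟩
    have hu2A : u * u ∈ cA G x := mul_mem hu hu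
    set C := centralizer ({u} : Set G) with hC
    have hCA : C ≤ cA G x := h.centralizer_le hu hu1
    have huC : u ∈ C := self_mem_cent u
    have hfree : ∀ d ∈ pairStab G x y, ∀ z ∈ h.invCore x, ∀ z' ∈ h.invCore x,
        ∀ e ∈ pairStab G x y, z * (d * u * d⁻¹) = z' * (e * u * e⁻¹) → d = e ∧ z = z' := by
      intro d hd z hz z' hz' e he heq
      have hsq : ∀ g ∈ pairStab G x y, ∀ a ∈ h.invCore x,
          a * (g * u * g⁻¹) * (a * (g * u * g⁻¹)) = g * (u * u) * g⁻¹ := fun g hg a ha => by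
        have hga : Commute (g * u * g⁻¹) a := (h.mem_centre.1 (h.invCore_le_centre x ha)).2 _
          (conj_mem_cA_of_fix (mem_pairStab.1 hg).1 hu)
        rw [hga.mul_mul_mul_comm, ha.2, one_mul]
        group
      have h1 : d * (u * u) * d⁻¹ = e * (u * u) * e⁻¹ := by
        rw [← hsq d hd z hz, ← hsq e he z' hz', heq]
      have hde : d = e := by
        have h2 := h.eq_one_of_commute_pairStab hxy hu2A hu2 (mul_mem (inv_mem he) hd)
          (show e⁻¹ * d * (u * u) = u * u * (e⁻¹ * d) from by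
            calc e⁻¹ * d * (u * u) = e⁻¹ * (d * (u * u) * d⁻¹) * d := by group
              _ = u * u * (e⁻¹ * d) := by rw [h1]; group)
        exact (inv_mul_eq_one.1 h2).symm
      subst hde
      exact ⟨rfl, mul_right_cancel heq⟩
    have hI1 : ∀ z ∈ h.invCore x, z ∈ C := fun z hz =>
      mem_cent.2 ((h.mem_centre.1 (h.invCore_le_centre x hz)).2 u hu).symm
    let f : h.invCore x × Option (pairStab G x y) → C := fun p =>
      ⟨(p.1 : G) * p.2.elim 1 (fun d => (d : G) * u * (d : G)⁻¹), by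
        refine mul_mem (hI1 _ p.1.2) ?_
        rcases p.2 with _ | d
        · exact one_mem _
        · exact mem_cent.2 (h.commute_conj hu (mem_pairStab.1 d.2).1 (Commute.refl u))⟩
    have hf : Function.Bijective f := by
      refine ⟨?_, ?_⟩
      · have hnot : ∀ (z z' : h.invCore x) (d : pairStab G x y),
            (z : G) ≠ (z' : G) * ((d : G) * u * (d : G)⁻¹) := by
          intro z z' d e
          have hm : (d : G) * u * (d : G)⁻¹ ∈ h.invCore x := by
            rw [show (d : G) * u * (d : G)⁻¹ = (z' : G)⁻¹ * z by rw [e]; group]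
            exact mul_mem (inv_mem z'.2) z.2
          have hm' := h.invCore_conj (g := (d : G)⁻¹)
            (inv_smul_eq_iff.2 (mem_pairStab.1 d.2).1.symm) hm
          exact hnu (by simpa [mul_assoc] using hm')
        rintro ⟨z, _ | d⟩ ⟨z', _ | e⟩ heq
        · have : (z : G) * 1 = (z' : G) * 1 := congrArg Subtype.val heq
          rw [mul_one, mul_one] at this
          rw [Subtype.ext this]
        · have h1 : (z : G) * 1 = _ := congrArg Subtype.val heq
          rw [mul_one] at h1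
          exact absurd h1 (hnot z z' e)
        · have h1 : _ = (z' : G) * 1 := congrArg Subtype.val heq
          rw [mul_one] at h1
          exact absurd h1.symm (hnot z' z d)
        · obtain ⟨h1, h2⟩ := hfree d d.2 z z.2 z' z'.2 e e.2 (congrArg Subtype.val heq)
          rw [Subtype.ext h1, Subtype.ext h2]
      · rintro ⟨c, hc⟩
        rcases h.commute_low hp hnab hxy hu (h4 u hu) hu2 (hCA hc) (h4 c (hCA hc))
          (mem_cent.1 hc) with hcI | ⟨d, hd, hz⟩
        · exact ⟨(⟨c, hcI⟩, none), Subtype.ext (mul_one c)⟩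
        · exact ⟨(⟨_, hz⟩, some ⟨d, hd⟩), Subtype.ext (inv_mul_cancel_right c _)⟩
    have hcardC : Nat.card C = (r + 1) ^ 2 := by
      rw [← Nat.card_eq_of_bijective f hf, Nat.card_prod, h.card_invCore x, Finite.card_option,
        h.card_pairStab hxy, sq]
    have hcomm : ∀ g ∈ cA G x, g * u * g⁻¹ * u⁻¹ ∈ h.invCore x := by
      intro g hg
      set v := g * u * g⁻¹ with hv
      have hvA : v ∈ cA G x := mul_mem (mul_mem hg hu) (inv_mem hg)
      have hvv : v * v = u * u := by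
        rw [hv, show g * u * g⁻¹ * (g * u * g⁻¹) = g * (u * u) * g⁻¹ by group,
          ((h.mem_centre.1 (h.invCore_le_centre x (h.sq_mem_invCore hp hnab hu))).2 g hg).eq,
          mul_inv_cancel_right]
      rcases h.commute_low hp hnab hxy hu (h4 u hu) hu2 hvA (h4 v hvA)
        (h.conj_commute hu hg) with hvI | ⟨d, hd, hz⟩
      · exact absurd (hvv.symm.trans hvI.2) hu2
      · have hdx := (mem_pairStab.1 hd).1
        have h1 : v * (d * u * d⁻¹)⁻¹ * (d * u * d⁻¹) *
            (v * (d * u * d⁻¹)⁻¹ * (d * u * d⁻¹)) = v * v := by rw [inv_mul_cancel_right]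
        have hga : Commute (d * u * d⁻¹) (v * (d * u * d⁻¹)⁻¹) :=
          (h.mem_centre.1 (h.invCore_le_centre x hz)).2 _ (conj_mem_cA_of_fix hdx hu)
        rw [hga.mul_mul_mul_comm, hz.2, one_mul, hvv] at h1
        have hd1 : d = 1 := h.eq_one_of_commute_pairStab hxy hu2A hu2 hd
          (show d * (u * u) = u * u * d by
            nth_rewrite 2 [← h1]
            group)
        simpa [hd1] using hz
    let φ : cA G x → h.invCore x := fun g => ⟨_, hcomm g g.2⟩
    have hφ : ∀ g g' : cA G x, φ g = φ g' ↔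
        QuotientGroup.mk (s := C.subgroupOf (cA G x)) g = QuotientGroup.mk g' := by
      intro g g'
      rw [QuotientGroup.eq, mem_subgroupOf, hC, mem_cent, Subtype.ext_iff]
      show (g : G) * u * (g : G)⁻¹ * u⁻¹ = (g' : G) * u * (g' : G)⁻¹ * u⁻¹ ↔
        (g : G)⁻¹ * g' * u = u * ((g : G)⁻¹ * g')
      constructor
      · intro e
        have e' := mul_right_cancel e
        calc (g : G)⁻¹ * g' * u = (g : G)⁻¹ * ((g' : G) * u * (g' : G)⁻¹) * g' := by group
          _ = u * ((g : G)⁻¹ * g') := by rw [← e']; group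
      · intro e
        congr 1
        calc (g : G) * u * (g : G)⁻¹ = (g : G) * (u * ((g : G)⁻¹ * g')) * (g' : G)⁻¹ := by group
          _ = (g' : G) * u * (g' : G)⁻¹ := by rw [← e]; group
    let ψ : (cA G x ⧸ C.subgroupOf (cA G x)) → h.invCore x :=
      Quotient.lift φ fun a b hab => (hφ a b).2 (Quotient.sound hab)
    have hψ : Function.Injective ψ := by
      rintro ⟨a⟩ ⟨b⟩ e
      exact (hφ a b).1 e
    obtain ⟨S, hS⟩ := h.exists_mul_add_one x
    rw [← hr] at hS
    set i := (C.subgroupOf (cA G x)).index with hi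
    have hcard : Nat.card (cA G x) = (r + 1) ^ 2 * i := by
      rw [← hcardC, ← Nat.card_congr (Subgroup.subgroupOfEquivOfLe hCA).toEquiv, hi,
        Subgroup.card_mul_index]
    have hile : i ≤ r + 1 := by
      rw [← h.card_invCore x, hi, Subgroup.index_eq_card]
      exact Nat.card_le_card_of_injective ψ hψ
    have hi1 : i ≠ 1 := by
      intro e
      rw [hi, Subgroup.index_eq_one] at e
      have hu3 : u ∈ h.centre x := h.mem_centre.2 ⟨hu, fun g hg => mem_cent.1
        (show g ∈ C from mem_subgroupOf.1 (e ▸ mem_top (⟨g, hg⟩ : cA G x)))⟩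
      exact hu2 (h.centre_sq hp hnab hu3)
    have hi0 : i ≠ 0 := Subgroup.index_ne_zero_of_finite
    have hiq : i = r + 1 := by
      by_contra hne
      have h2 : r * S + 1 = (r * (r + 2)) * i + i := by
        rw [hS, hcard]; ring
      have h2' : r * S + 1 = r * ((r + 2) * i) + i := by rw [h2]; ring
      have h3 : r * ((r + 2) * i) < r * S := by omega
      have h3' : (r + 2) * i + 1 ≤ S := Nat.lt_of_mul_lt_mul_left h3
      have h5 : r * ((r + 2) * i + 1) ≤ r * S := Nat.mul_le_mul_left r h3'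
      rw [Nat.mul_add, mul_one] at h5
      omega
    refine ⟨hcardC, by rw [hcard, hiq, ← pow_succ], fun z hz => ?_⟩
    have hbij := (Nat.bijective_iff_injective_and_card ψ).2 ⟨hψ, by
      rw [h.card_invCore x, ← hr, ← hiq, hi, Subgroup.index_eq_card]⟩
    obtain ⟨q, hq⟩ := hbij.2 ⟨z, hz⟩
    obtain ⟨g, rfl⟩ := QuotientGroup.mk_surjective q
    refine ⟨g, g.2, ?_⟩
    have hq' : (g : G) * u * (g : G)⁻¹ * u⁻¹ = z := congrArg Subtype.val hq
    rw [← hq', inv_mul_cancel_right]
  obtain ⟨a, ha, hna⟩ : ∃ a ∈ cA G x, a ∉ h.invCore x := by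
    by_contra hcon
    push Not at hcon
    exact hnab fun a ha b hb => (h.commute_of_sq ha (hcon a ha).2 hb).eq
  exact ⟨(key a ha hna).2.1, fun u hu hnu => ⟨(key u hu hnu).1, (key u hu hnu).2.2⟩⟩

end CfsgLib.TICentralizers
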